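import Cfsg.Agent.H4.SelfDual
import Cfsg.Agent.H3.FS

/-! Twisted skew forms on representations of the kernel of a sign `ε : Γ →* ℤˣ`.
`NQ ε`: no irreducible representation of `ker ε` is of (twisted) quaternionic type. -/

set_option autoImplicit false

namespace Cfsg.Agent.FS

open Module

theorem trace_adj {K U : Type*} [Field K] [AddCommGroup U] [Module K U] [FiniteDimensional K U]
    (B : U →ₗ[K] U →ₗ[K] K) (hB : Function.Injective B) {f g : End K U}
    (h : ∀ u w, B (f u) w = B u (g w)) : LinearMap.trace K U f = LinearMap.trace K U g := by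
  let e := LinearEquiv.ofInjectiveOfFinrankEq (V' := Dual K U) B hB Subspace.dual_finrank_eq.symm
  have : e.conj f = Dual.transpose (R := K) g := LinearMap.ext fun φ => by
    obtain ⟨u, rfl⟩ := e.surjective φ
    rw [LinearEquiv.conj_apply_apply, e.symm_apply_apply]
    exact LinearMap.ext (h u)
  rw [← LinearMap.trace_conj' f e, this, LinearMap.trace_transpose']

theorem exists_adj {K U : Type*} [Field K] [AddCommGroup U] [Module K U] [FiniteDimensional K U]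
    (B : U →ₗ[K] U →ₗ[K] K) (hB : Function.Injective B) (g : End K U) :
    ∃ f : End K U, ∀ u w, B (f u) w = B u (g w) := by
  let e := LinearEquiv.ofInjectiveOfFinrankEq (V' := Dual K U) B hB Subspace.dual_finrank_eq.symm
  refine ⟨e.symm.conj (Dual.transpose (R := K) g), fun u w => ?_⟩
  have : ∀ φ, B (e.symm φ) = φ := e.apply_symm_apply
  rw [LinearEquiv.conj_apply_apply, this]; rfl

theorem exists_min {K W : Type*} [Field K] [AddCommGroup W] [Module K W] [FiniteDimensional K W]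
    (P : Submodule K W → Prop) {U : Submodule K W} (h : P U) (h0 : U ≠ ⊥) :
    ∃ M ≤ U, M ≠ ⊥ ∧ P M ∧ ∀ M' ≤ M, P M' → M' = ⊥ ∨ M' = M := by
  obtain ⟨M, h1, h2⟩ := exists_minimal_le_of_wellFoundedLT (fun M => M ≠ ⊥ ∧ P M) U ⟨h0, h⟩
  exact ⟨M, h1, h2.1.1, h2.1.2, fun M' l p => (em _).imp_right fun n =>
    le_antisymm l (h2.2 ⟨n, p⟩ l)⟩

structure Sit {Γ : Type*} [Group Γ] (ε : Γ →* ℤˣ) (W : Type) [AddCommGroup W] [Module ℂ W] where
  ρ : Γ → End ℂ W
  one : ρ 1 = 1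
  mul : ∀ {g h}, ε g = 1 → ε h = 1 → ρ (g * h) = ρ g * ρ h
  B : Γ → W →ₗ[ℂ] W →ₗ[ℂ] ℂ
  inv : ∀ {g x}, ε g = 1 → ε x = -1 → ∀ u v, B (g * x) (ρ g u) v = B x u v
  skew : ∀ {x}, ε x = -1 → ∀ u v, B x u v = -B x⁻¹ v u

variable {Γ Δ : Type*} [Group Γ] [Group Δ] {ε : Γ →* ℤˣ} {ε' : Δ →* ℤˣ} {W : Type}
  [AddCommGroup W] [Module ℂ W]

namespace Sit

variable (S : Sit ε W) {g h x : Γ}

def Inv (U : Submodule ℂ W) : Prop := ∀ g, ε g = 1 → ∀ u ∈ U, S.ρ g u ∈ U

def Min (U : Submodule ℂ W) : Prop := S.Inv U ∧ ∀ U' ≤ U, S.Inv U' → U' = ⊥ ∨ U' = U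

def ND : Prop := ∀ x, ε x = -1 → ∀ u, (∀ v, S.B x u v = 0) → u = 0

structure Bad : Prop where
  min : S.Min ⊤
  nd : S.ND
  nt : Nontrivial W
  ex : ∃ x, ε x = -1

theorem mul' (hg : ε g = 1) (hh : ε h = 1) (u : W) : S.ρ (g * h) u = S.ρ g (S.ρ h u) := by
  rw [S.mul hg hh]; rfl

theorem inv_apply (hg : ε g = 1) (u : W) : S.ρ g⁻¹ (S.ρ g u) = u := by
  rw [← S.mul' (by simp [hg]) hg, inv_mul_cancel, S.one]; rfl

theorem apply_inv (hg : ε g = 1) (u : W) : S.ρ g (S.ρ g⁻¹ u) = u := by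
  rw [← S.mul' hg (by simp [hg]), mul_inv_cancel, S.one]; rfl

theorem left (hg : ε g = 1) (hx : ε x = -1) (u v : W) : S.B x (S.ρ g u) v = S.B (g⁻¹ * x) u v := by
  rw [← S.inv hg (x := g⁻¹ * x) (by simp [hg, hx]), mul_inv_cancel_left]

theorem right (hh : ε h = 1) (hx : ε x = -1) (u v : W) : S.B x u (S.ρ h v) = S.B (x * h) u v := by
  rw [S.skew hx, S.left hh (by simp [hx]), S.skew (x := x * h) (by simp [hx, hh]), mul_inv_rev]

theorem adj (hg : ε g = 1) (hx : ε x = -1) (u v : W) :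
    S.B x (S.ρ g u) v = S.B x u (S.ρ (x⁻¹ * g⁻¹ * x) v) := by
  rw [S.left hg hx, S.right (by simp [hx, hg]) hx]; congr 3; group

/-- the representation of the kernel -/
def rep : Representation ℂ ε.ker W := ⟨⟨fun g => S.ρ g, S.one⟩, fun g h => S.mul g.2 h.2⟩

open Classical in
noncomputable def sub (U : Submodule ℂ W) (hU : S.Inv U) : Sit ε U where
  ρ g := if h : ε g = 1 then (S.ρ g).restrict (hU g h) else 0
  one := by ext; simp [S.one]
  mul hg hh := by ext; simp [hg, hh, S.mul]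
  B x := (S.B x).compl₁₂ U.subtype U.subtype
  inv hg hx u v := by simp [hg, S.inv hg hx]
  skew hx u v := S.skew hx u v

theorem sub_ρ {U : Submodule ℂ W} (hU : S.Inv U) (hg : ε g = 1) (u : U) :
    ((S.sub U hU).ρ g u : W) = S.ρ g u := by simp [sub, hg]

def comap (f : Δ →* Γ) (hf : ∀ y, ε (f y) = ε' y) : Sit ε' W where
  ρ y := S.ρ (f y)
  one := by simp [S.one]
  mul hg hh := by rw [map_mul, S.mul (by rwa [hf]) (by rwa [hf])]
  B y := S.B (f y)
  inv hg hx u v := by rw [map_mul, S.inv (by rwa [hf]) (by rwa [hf])]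
  skew hx u v := by rw [map_inv, S.skew (by rwa [hf])]

theorem exists_min [FiniteDimensional ℂ W] {U : Submodule ℂ W} (h : S.Inv U) (h0 : U ≠ ⊥) :
    ∃ M ≤ U, M ≠ ⊥ ∧ S.Min M := FS.exists_min S.Inv h h0

variable {S}

theorem Min.span (h : S.Min ⊤) {w : W} (hw : w ≠ 0) {U : Submodule ℂ W}
    (hU : ∀ g, ε g = 1 → S.ρ g w ∈ U) (v : W) : v ∈ U := by
  have i : S.Inv (Submodule.span ℂ {u | ∃ g, ε g = 1 ∧ S.ρ g w = u}) := fun g hg u hu => by
    refine Submodule.mem_comap.1 (Submodule.span_le.2 ?_ hu)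
    rintro _ ⟨k, hk, rfl⟩
    exact Submodule.subset_span ⟨g * k, by simp [hg, hk], S.mul' hg hk w⟩
  rcases h.2 _ le_top i with e | e
  · have : w ∈ (⊥ : Submodule ℂ W) := e ▸ Submodule.subset_span ⟨1, map_one ε, by simp [S.one]⟩
    exact (hw this).elim
  · have : v ∈ Submodule.span ℂ {u | ∃ g, ε g = 1 ∧ S.ρ g w = u} := e ▸ Submodule.mem_top
    refine Submodule.span_le.2 ?_ this
    rintro _ ⟨k, hk, rfl⟩
    exact hU k hk

theorem Bad.exists_ne (h : S.Bad) {w : W} (hw : w ≠ 0) : ∃ x, ε x = -1 ∧ S.B x w w ≠ 0 := by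
  by_contra! n
  obtain ⟨x, hx⟩ := h.ex
  exact hw (h.nd x hx w fun v => h.min.span hw (U := LinearMap.ker (S.B x w))
    (fun g hg => by rw [LinearMap.mem_ker, S.right hg hx, n _ (by simp [hx, hg])]) v)

theorem ND.inj (h : S.ND) (hx : ε x = -1) : Function.Injective (S.B x) :=
  (injective_iff_map_eq_zero _).2 fun u hu => h x hx u fun v => by rw [hu]; rfl

theorem ND.trace [FiniteDimensional ℂ W] (h : S.ND) (hx : ε x = -1) (hg : ε g = 1) :
    LinearMap.trace ℂ W (S.ρ (x⁻¹ * g⁻¹ * x)) = LinearMap.trace ℂ W (S.ρ g) :=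
  (trace_adj _ (h.inj hx) (S.adj hg hx)).symm

end Sit

/-- no quaternionic irreducible representation -/
def NQ (ε : Γ →* ℤˣ) : Prop :=
  ∀ (W : Type) [AddCommGroup W] [Module ℂ W] [FiniteDimensional ℂ W] (S : Sit ε W)
    (U : Submodule ℂ W), S.Min U → ∀ x, ε x = -1 → ∀ u ∈ U, ∀ v ∈ U, S.B x u v = 0

theorem nq_of_bad (h : ∀ (W : Type) [AddCommGroup W] [Module ℂ W] [FiniteDimensional ℂ W]
    (S : Sit ε W), S.Bad → False) : NQ ε := fun W _ _ _ S U hU x hx u hu v hv => by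
  by_contra n
  have m : (S.sub U hU.1).Min ⊤ := ⟨fun _ _ _ _ => trivial, fun U' _ i => by
    refine (hU.2 (U'.map U.subtype) (Submodule.map_subtype_le _ _) ?_).imp (fun e => ?_) fun e => ?_
    · rintro g hg _ ⟨y, hy, rfl⟩
      exact ⟨_, i g hg y hy, S.sub_ρ hU.1 hg y⟩
    · exact Submodule.map_injective_of_injective U.injective_subtype (by simpa using e)
    · exact Submodule.map_injective_of_injective U.injective_subtype (by simpa using e)⟩
  refine h U (S.sub U hU.1) ⟨m, fun y hy w hw => ?_,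
    ⟨⟨u, hu⟩, 0, fun e => n (by rw [show u = 0 from congrArg Subtype.val e]; simp)⟩, x, hx⟩
  by_contra w0
  have := m.span w0 (U := LinearMap.ker (((S.sub U hU.1).B x).flip ⟨v, hv⟩)) (fun g hg => by
    rw [LinearMap.mem_ker, LinearMap.flip_apply, Sit.left _ hg hx,
      show g⁻¹ * x = y * (y⁻¹ * g⁻¹ * x) by group, ← Sit.right _ (by simp [hx, hg, hy]) hy, hw])
    ⟨u, hu⟩
  exact n this

theorem nq_of_pos (h : ∀ x, ε x = 1) : NQ ε := fun _ _ _ _ _ _ _ x hx => by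
  rw [h x] at hx; exact absurd hx (by decide)

theorem NQ.of_surj (h : NQ ε') (f : Δ →* Γ) (hf : ∀ y, ε (f y) = ε' y)
    (hs : Function.Surjective f) : NQ ε := fun W _ _ _ S U hU x hx u hu v hv => by
  obtain ⟨y, rfl⟩ := hs x
  refine h W (S.comap f hf) U ⟨fun g hg => hU.1 _ (by rwa [hf]), fun U' l i => hU.2 U' l
    fun g hg => ?_⟩ y (by rwa [← hf]) u hu v hv
  obtain ⟨y, rfl⟩ := hs g
  exact i y (by rwa [← hf])

theorem NQ.of_inj (h : NQ ε) (f : Δ →* Γ) (hf : ∀ y, ε (f y) = ε' y)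
    (hi : Function.Injective f) (hs : ∀ g, ε g = 1 → ∃ y, f y = g) : NQ ε' := by
  by_cases e : ∀ y, ε' y = 1
  · exact nq_of_pos e
  obtain ⟨y, hy⟩ := not_forall.1 e
  have hy := (Int.units_eq_one_or (ε' y)).resolve_left hy
  let e := MulEquiv.ofBijective f ⟨hi, fun x => by
    rcases Int.units_eq_one_or (ε x) with hx | hx
    · exact hs x hx
    · obtain ⟨z, hz⟩ := hs (x * f y⁻¹) (by rw [map_mul, hf]; simp [hx, hy])
      exact ⟨z * y, by simp [hz]⟩⟩
  exact h.of_surj e.symm.toMonoidHom (fun x => by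
    rw [← hf]; exact congrArg ε (e.apply_symm_apply x)) e.symm.surjective

/-- the restriction of a nondegenerate situation to a group with `NQ` is hyperbolic -/
theorem NQ.hyp [Finite Γ] [FiniteDimensional ℂ W] (h : NQ ε) (S : Sit ε W) (nd : S.ND) {x : Γ}
    (hx : ε x = -1) : ∃ θ : Γ → ℂ, IsCharacter ε.ker (fun g => θ g) ∧ ∀ g, ε g = 1 →
      LinearMap.trace ℂ W (S.ρ g) = θ g + θ (x⁻¹ * g⁻¹ * x) := by
  obtain ⟨U, -, hU⟩ := exists_maximal_ge_of_wellFoundedGT (fun U : Submodule ℂ W => S.Inv U ∧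
    ∀ y, ε y = -1 → ∀ u ∈ U, ∀ v ∈ U, S.B y u v = 0) ⊥
    ⟨fun g _ u hu => by simp_all, fun y _ u hu v _ => by simp_all⟩
  obtain ⟨U', c, i⟩ := H4.exists_invariant_isCompl H3.natCard_ne_zero S.rep U
    fun g => hU.1.1 g g.2
  have i' : S.Inv U' := fun g hg => i ⟨g, hg⟩
  let T : Submodule ℂ W := ⨅ (y : Γ) (_ : ε y = -1) (u ∈ U), LinearMap.ker (S.B y u)
  have mT : ∀ v, v ∈ T ↔ ∀ y, ε y = -1 → ∀ u ∈ U, S.B y u v = 0 := by simp [T]
  have T0 : T ⊓ U' = ⊥ := by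
    by_contra n
    obtain ⟨M, l, M0, hM⟩ := S.exists_min (U := T ⊓ U') (fun g hg v hv => ⟨(mT _).2 fun y hy u hu =>
      by rw [S.right hg hy, (mT v).1 hv.1 _ (by simp [hy, hg]) u hu], i' g hg v hv.2⟩) n
    have := hU.2 (y := U ⊔ M) ⟨fun g hg v hv => ?_, fun y hy u hu v hv => ?_⟩ le_sup_left
    · exact M0 (eq_bot_iff.2 (c.disjoint (le_sup_right.trans this) (l.trans inf_le_right)))
    · obtain ⟨a, ha, b, hb, rfl⟩ := Submodule.mem_sup.1 hv
      rw [map_add]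
      exact Submodule.add_mem_sup (hU.1.1 g hg a ha) (hM.1 g hg b hb)
    · obtain ⟨a, ha, b, hb, rfl⟩ := Submodule.mem_sup.1 hu
      obtain ⟨c, hc, d, hd, rfl⟩ := Submodule.mem_sup.1 hv
      simp only [map_add, LinearMap.add_apply]
      rw [hU.1.2 y hy a ha c hc, (mT d).1 (l hd).1 y hy a ha, h W S M hM y hy b hb d hd, S.skew hy,
        (mT b).1 (l hb).1 _ (by simp [hy]) c hc]
      simp
  let P : End ℂ W := U.projection U' c
  have P1 : ∀ u ∈ U, P u = u := fun u hu => Submodule.projection_apply_of_mem_left c hu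
  have P2 : ∀ u ∈ U', P u = 0 := fun u hu => Submodule.projection_apply_of_mem_right c hu
  have ext : ∀ {f f' : End ℂ W}, (∀ u ∈ U, f u = f' u) → (∀ u ∈ U', f u = f' u) → f = f' :=
    fun h1 h2 => LinearMap.ext fun w => by
      obtain ⟨a, ha, b, hb, rfl⟩ := Submodule.mem_sup.1 (c.sup_eq_top ▸ Submodule.mem_top (x := w))
      rw [map_add, map_add, h1 a ha, h2 b hb]
  have PU : ∀ w, P w ∈ U := fun w => Submodule.projection_apply_mem c w
  have cm : ∀ g, ε g = 1 → P * S.ρ g = S.ρ g * P := fun g hg =>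
    ext (fun u hu => by simp [P1 u hu, P1 _ (hU.1.1 g hg u hu)])
      fun u hu => by simp [P2 u hu, P2 _ (i' g hg u hu)]
  have fl : Function.Injective (S.B x).flip := (injective_iff_map_eq_zero _).2 fun v hv =>
    nd x⁻¹ (by simp [hx]) v fun u => by
      have := S.skew hx u v
      rw [show S.B x u v = 0 from LinearMap.congr_fun hv u] at this
      simpa using this
  obtain ⟨Q, hQ⟩ := exists_adj _ fl P
  simp only [LinearMap.flip_apply] at hQ
  have Q1 : Q * (1 - P) = Q := by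
    rw [mul_sub, mul_one, sub_eq_self]
    exact LinearMap.ext fun w => fl (LinearMap.ext fun u => by
      simpa [hQ] using hU.1.2 x hx _ (PU u) _ (PU w))
  have Q2 : (1 - P) * Q = 1 - P := LinearMap.ext fun w => by
    have : (w - Q w) - P (w - Q w) ∈ T ⊓ U' := by
      refine ⟨T.sub_mem ((mT _).2 fun y hy u hu => ?_) ((mT _).2 fun y hy u hu =>
        hU.1.2 y hy u hu _ (PU _)), Submodule.sub_projection_mem c _⟩
      rw [show y = (x * y⁻¹)⁻¹ * x by group, ← S.left (by simp [hx, hy]) hx, map_sub, hQ,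
        P1 _ (hU.1.1 _ (by simp [hx, hy]) u hu), sub_self]
    rw [T0, Submodule.mem_bot, map_sub] at this
    simp only [End.mul_apply, LinearMap.sub_apply, End.one_apply]
    rw [← sub_eq_zero, ← neg_eq_zero, ← this]; abel
  refine ⟨fun g => LinearMap.trace ℂ W (S.ρ g * P), H3.isCharacter_trace_mul_of_idempotent S.rep P
    (LinearMap.ext fun w => P1 _ (PU w)) fun g => cm g g.2, fun g hg => ?_⟩
  have hg' : ε (x⁻¹ * g⁻¹ * x) = 1 := by simp [hx, hg]
  have e : LinearMap.trace ℂ W (S.ρ g * P) = LinearMap.trace ℂ W (S.ρ (x⁻¹ * g⁻¹ * x) * (1 - P)) := by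
    rw [trace_adj _ (nd.inj hx) (g := Q * S.ρ (x⁻¹ * g⁻¹ * x)) fun u w => by
      simp [S.adj hg hx, hQ], ← Q1, mul_assoc, sub_mul, ← Q2, cm _ hg', one_mul]
    rw [show S.ρ (x⁻¹ * g⁻¹ * x) - S.ρ (x⁻¹ * g⁻¹ * x) * P = S.ρ (x⁻¹ * g⁻¹ * x) * (1 - P) by
      rw [mul_sub, mul_one], LinearMap.trace_mul_comm, mul_assoc]
  beta_reduce
  rw [e, ← map_add, ← mul_add, sub_add_cancel, mul_one, nd.trace hx hg]

end Cfsg.Agent.FS
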