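import Cfsg.Agent.FS.A

/-! Descent along an elementary abelian normal subgroup; fibre products. -/

set_option autoImplicit false

namespace Cfsg.Agent.FS

open Module

variable {Γ : Type*} [Group Γ] {ε : Γ →* ℤˣ} {W : Type} [AddCommGroup W] [Module ℂ W]

def stab (A L : Subgroup Γ) [hA : A.Normal] (l : Γ → ℤˣ) : Subgroup Γ where
  carrier := {y | y ∈ L ∧ ∀ a ∈ A, l (y * a * y⁻¹) = l a}
  one_mem' := ⟨L.one_mem, by simp⟩
  mul_mem' {x y} hx hy := ⟨L.mul_mem hx.1 hy.1, fun a ha => by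
    rw [← hy.2 a ha, ← hx.2 _ (hA.conj_mem a ha y)]; congr 1; group⟩
  inv_mem' {x} hx := ⟨L.inv_mem hx.1, fun a ha => by
    rw [← hx.2 _ (hA.conj_mem a ha x⁻¹)]; congr 1; group⟩

theorem units_smul_cancel {a b : ℤˣ} {w : W} (hw : w ≠ 0) (h : ((a : ℤ) : ℂ) • w = ((b : ℤ) : ℂ) • w) :
    a = b := Units.ext (Int.cast_injective (α := ℂ) (smul_left_injective ℂ hw h))

theorem desc [Finite Γ] [FiniteDimensional ℂ W] (A L : Subgroup Γ) [hA : A.Normal]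
    (h1 : ∀ a ∈ A, ε a = 1) (hAL : ∀ x, ∃ a ∈ A, ∃ y ∈ L, x = a * y) {S : Sit ε W} (hb : S.Bad)
    (hc : ∀ a ∈ A, ∀ b ∈ A, ∀ w, S.ρ a (S.ρ b w) = S.ρ b (S.ρ a w))
    (h2 : ∀ a ∈ A, ∀ w, S.ρ a (S.ρ a w) = w) :
    ∃ l : Γ → ℤˣ, (∀ a ∈ A, ∀ b ∈ A, l (a * b) = l a * l b) ∧ (∀ a ∈ A, S.ρ a = 1 → l a = 1) ∧
      ¬ NQ (ε.comp (stab A L l).subtype) := by
  classical
  have := hb.nt
  obtain ⟨M, -, M0, i, hM⟩ := exists_min (K := ℂ) (fun U : Submodule ℂ W => ∀ a ∈ A, ∀ u ∈ U,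
    S.ρ a u ∈ U) (U := ⊤) (fun _ _ _ _ => trivial) top_ne_bot
  obtain ⟨w, hw, w0⟩ := (Submodule.ne_bot_iff _).1 M0
  have : ∀ a, ∃ s : ℤˣ, a ∈ A → S.ρ a w = ((s : ℤ) : ℂ) • w := fun a => by
    by_cases ha : a ∈ A
    swap
    · exact ⟨1, fun h => (ha h).elim⟩
    rcases hM (M ⊓ LinearMap.ker (S.ρ a - 1)) inf_le_left (fun b hb u hu => ⟨i b hb u hu.1, by
      have := hu.2
      simp only [SetLike.mem_coe, LinearMap.mem_ker, LinearMap.sub_apply, End.one_apply,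
        sub_eq_zero] at this ⊢
      rw [hc a ha b hb, this]⟩) with e | e
    · refine ⟨-1, fun _ => ?_⟩
      have : w + S.ρ a w ∈ M ⊓ LinearMap.ker (S.ρ a - 1) :=
        ⟨M.add_mem hw (i a ha w hw), by simp [h2 a ha, add_comm]⟩
      rw [e, Submodule.mem_bot] at this
      simpa using eq_neg_of_add_eq_zero_right this
    · refine ⟨1, fun _ => ?_⟩
      have := (e.symm ▸ hw : w ∈ M ⊓ LinearMap.ker (S.ρ a - 1)).2
      simpa [sub_eq_zero] using this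
  choose l hl using this
  have lm : ∀ a ∈ A, ∀ b ∈ A, l (a * b) = l a * l b := fun a ha b hb => units_smul_cancel w0 (by
    rw [← hl _ (A.mul_mem ha hb), S.mul' (h1 a ha) (h1 b hb), hl b hb, map_smul, hl a ha, smul_smul]
    simp [mul_comm])
  refine ⟨l, lm, fun a ha e => units_smul_cancel w0 (by rw [← hl a ha, e]; simp), fun nq => ?_⟩
  let U : Submodule ℂ W := ⨅ a ∈ A, LinearMap.ker (S.ρ a - ((l a : ℤ) : ℂ) • 1)
  have mU : ∀ u, u ∈ U ↔ ∀ a ∈ A, S.ρ a u = ((l a : ℤ) : ℂ) • u := by simp [U, sub_eq_zero]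
  have cj : ∀ k, ε k = 1 → ∀ u ∈ U, ∀ a ∈ A,
      S.ρ a (S.ρ k u) = ((l (k⁻¹ * a * k) : ℤ) : ℂ) • S.ρ k u := fun k hk u hu a ha => by
    have m := hA.conj_mem' a ha k
    rw [← map_smul, ← (mU u).1 hu _ m, ← S.mul' hk (h1 _ m), ← S.mul' (h1 a ha) hk]
    congr 2; group
  have sq : ∀ s : ℤˣ, ((s : ℤ) : ℂ) * ((s : ℤ) : ℂ) = 1 := fun s => by
    rcases Int.units_eq_one_or s with h | h <;> simp [h]
  have st : ∀ a ∈ A, ∀ y ∈ L, (∀ b ∈ A, l ((a * y)⁻¹ * b * (a * y)) = l b) → y ∈ stab A L l :=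
    fun a ha y hy h => ⟨hy, fun b hb => by
      rw [← h _ (hA.conj_mem b hb y), show (a * y)⁻¹ * (y * b * y⁻¹) * (a * y) =
        (y⁻¹ * a * y)⁻¹ * (b * (y⁻¹ * a * y)) by group, lm _ (A.inv_mem (hA.conj_mem' a ha y)) _
        (A.mul_mem hb (hA.conj_mem' a ha y)), lm _ hb _ (hA.conj_mem' a ha y), mul_comm (l b),
        ← mul_assoc, ← lm _ (A.inv_mem (hA.conj_mem' a ha y)) _ (hA.conj_mem' a ha y),
        inv_mul_cancel, ← lm _ A.one_mem _ hb, one_mul]⟩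
  have iU : ∀ y ∈ stab A L l, ε y = 1 → ∀ u ∈ U, S.ρ y u ∈ U := fun y hy e u hu =>
    (mU _).2 fun a ha => by
      rw [cj y e u hu a ha, ← hy.2 _ (hA.conj_mem' a ha y)]; congr 4; group
  obtain ⟨x, hx, n⟩ := hb.exists_ne w0
  have wU := (mU w).2 fun a ha => hl a ha
  obtain ⟨a, ha, y, hy, rfl⟩ := hAL x
  have ey : ε y = -1 := by simpa [h1 a ha] using hx
  have hy' := st a ha y hy fun b hb => by
    have m := hA.conj_mem' b hb (a * y)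
    have := S.adj (g := b⁻¹) (by simp [h1 b hb]) hx w w
    rw [inv_inv, hl _ m, hl _ (A.inv_mem hb), map_smul, map_smul, LinearMap.smul_apply] at this
    have e := units_smul_cancel n this
    rw [← e, eq_comm, ← mul_left_inj (l b⁻¹), ← lm _ hb _ (A.inv_mem hb), Int.units_mul_self,
      ← mul_left_inj (l 1), ← lm _ (by simp) _ A.one_mem]
    simp
  have := nq W (S.comap (stab A L l).subtype fun _ => rfl) U ⟨fun g hg => iU g g.2 hg,
    fun U' le i' => (em _).imp_right fun n0 => le_antisymm le fun v hv => ?_⟩ ⟨y, hy'⟩ ey w wU w wU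
  · refine n ?_
    rw [← inv_inv a, ← S.left (by simp [h1 a ha]) ey, hl _ (A.inv_mem ha), map_smul,
      LinearMap.smul_apply]
    exact smul_eq_zero_of_right _ this
  · obtain ⟨u, hu, u0⟩ := (Submodule.ne_bot_iff _).1 n0
    have := Fintype.ofFinite A
    let e : End ℂ W := ∑ a : A, ((l a : ℤ) : ℂ) • S.ρ a
    have e1 : ∀ z ∈ U, e z = (Fintype.card A : ℂ) • z := fun z hz => by
      simp only [e, LinearMap.sum_apply, LinearMap.smul_apply]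
      rw [Finset.sum_congr rfl fun (a : A) _ => by rw [(mU z).1 hz a a.2, smul_smul, sq, one_smul]]
      simp [Nat.cast_smul_eq_nsmul]
    have := hb.min.span u0 (U := U'.comap e) (fun k hk => ?_) v
    · rw [Submodule.mem_comap, e1 v hv] at this
      exact (U'.smul_mem_iff (by simp)).1 this
    by_cases hk' : ∀ b ∈ A, l (k⁻¹ * b * k) = l b
    · obtain ⟨a, ha, y, hy, rfl⟩ := hAL k
      have ey : ε y = 1 := by simpa [h1 a ha] using hk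
      have m := iU y (st a ha y hy hk') ey u (le hu)
      rw [Submodule.mem_comap, S.mul' (h1 a ha) ey, (mU _).1 m a ha, map_smul, e1 _ m]
      exact U'.smul_mem _ (U'.smul_mem _ (i' ⟨y, st a ha y hy hk'⟩ ey u hu))
    · push Not at hk'
      obtain ⟨b, hb, nb⟩ := hk'
      have s0 : ∑ a : A, ((l a : ℤ) : ℂ) * ((l (k⁻¹ * a * k) : ℤ) : ℂ) = 0 := by
        have := Equiv.sum_comp (Equiv.mulRight (⟨b, hb⟩ : A))
          fun a : A => ((l a : ℤ) : ℂ) * ((l (k⁻¹ * a * k) : ℤ) : ℂ)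
        rw [Finset.sum_congr rfl fun (a : A) _ => show _ =
          -(((l a : ℤ) : ℂ) * ((l (k⁻¹ * a * k) : ℤ) : ℂ)) by
            simp only [Equiv.coe_mulRight, Subgroup.coe_mul]
            rw [show k⁻¹ * (a * b) * k = k⁻¹ * a * k * (k⁻¹ * b * k) by group, lm _ a.2 _ hb,
              lm _ (hA.conj_mem' _ a.2 k) _ (hA.conj_mem' _ hb k), Int.units_ne_iff_eq_neg.1 nb]
            push_cast
            linear_combination -(((l a : ℤ) : ℂ) * ((l (k⁻¹ * a * k) : ℤ) : ℂ)) * sq (l b),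
          Finset.sum_neg_distrib] at this
        exact neg_eq_self.1 this
      have : e (S.ρ k u) = 0 := by
        simp only [e, LinearMap.sum_apply, LinearMap.smul_apply]
        rw [Finset.sum_congr rfl fun (a : A) _ => by rw [cj k hk u (le hu) a a.2, smul_smul],
          ← Finset.sum_smul, s0, zero_smul]
      rw [Submodule.mem_comap, this]
      exact U'.zero_mem

section
variable {Γ₁ Γ₂ : Type*} [Group Γ₁] [Group Γ₂] {ε₁ : Γ₁ →* ℤˣ} {ε₂ : Γ₂ →* ℤˣ}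

/-- a bimultiplicative parametrisation by pairs of equal sign -/
structure Par (ε₁ : Γ₁ →* ℤˣ) (ε₂ : Γ₂ →* ℤˣ) (ε : Γ →* ℤˣ) (m : Γ₁ → Γ₂ → Γ) : Prop where
  mul : ∀ {x₁ x₂ y₁ y₂}, ε₁ x₁ = ε₂ x₂ → ε₁ y₁ = ε₂ y₂ → m (x₁ * y₁) (x₂ * y₂) = m x₁ x₂ * m y₁ y₂
  sgn : ∀ {x₁ x₂}, ε₁ x₁ = ε₂ x₂ → ε (m x₁ x₂) = ε₁ x₁

variable {m : Γ₁ → Γ₂ → Γ}

theorem Par.swap (h : Par ε₁ ε₂ ε m) : Par ε₂ ε₁ ε fun x y => m y x :=
  ⟨fun a b => h.mul a.symm b.symm, fun a => (h.sgn a.symm).trans a.symm⟩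

theorem Par.one (h : Par ε₁ ε₂ ε m) : m 1 1 = 1 := by
  simpa using h.mul (x₁ := 1) (x₂ := 1) (y₁ := 1) (y₂ := 1) (by simp) (by simp)

theorem Par.inv (h : Par ε₁ ε₂ ε m) {x₁ : Γ₁} {x₂ : Γ₂} (e : ε₁ x₁ = ε₂ x₂) :
    (m x₁ x₂)⁻¹ = m x₁⁻¹ x₂⁻¹ :=
  inv_eq_of_mul_eq_one_right (by rw [← h.mul e (by simp [e])]; simpa using h.one)

def Par.sit (h : Par ε₁ ε₂ ε m) (S : Sit ε W) {x₂ : Γ₂} (hx : ε₂ x₂ = -1) : Sit ε₁ W where
  ρ g := S.ρ (m g 1)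
  one := by rw [h.one, S.one]
  mul hg hh := by
    rw [← S.mul (by rw [h.sgn (by simp [hg]), hg]) (by rw [h.sgn (by simp [hh]), hh]),
      ← h.mul (by simp [hg]) (by simp [hh]), mul_one]
  B x := S.B (m x x₂) + S.B (m x x₂⁻¹)
  inv {g x} hg hy u v := by
    have : ∀ z, ε₂ z = -1 → S.B (m (g * x) z) (S.ρ (m g 1) u) v = S.B (m x z) u v := fun z hz => by
      rw [← S.inv (g := m g 1) (x := m x z) (by rw [h.sgn (by simp [hg]), hg])
        (by rw [h.sgn (by simp [hy, hz]), hy]), ← h.mul (by simp [hg]) (by simp [hy, hz]), one_mul]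
    simp [this x₂ hx, this x₂⁻¹ (by simp [hx])]
  skew {x} hy u v := by
    have : ∀ z, ε₂ z = -1 → S.B (m x z) u v = -S.B (m x⁻¹ z⁻¹) v u := fun z hz => by
      rw [S.skew (by rw [h.sgn (by simp [hy, hz]), hy]), h.inv (by simp [hy, hz])]
    simp [this x₂ hx, this x₂⁻¹ (by simp [hx]), add_comm]

theorem Par.nq (h : Par ε₁ ε₂ ε m) (hs : ∀ x, ∃ x₁ x₂, ε₁ x₁ = ε₂ x₂ ∧ m x₁ x₂ = x) (h1 : NQ ε₁)
    (h2 : NQ ε₂) : NQ ε := nq_of_bad fun W _ _ _ S hb => by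
  have := hb.nt
  obtain ⟨x, hx⟩ := hb.ex
  obtain ⟨x₁, x₂, e, rfl⟩ := hs x
  have e1 : ε₁ x₁ = -1 := by rw [← h.sgn e, hx]
  have e2 : ε₂ x₂ = -1 := by rw [← e, e1]
  obtain ⟨R, -, R0, hR⟩ := (h.sit S e2).exists_min (U := ⊤) (fun _ _ _ _ => trivial) top_ne_bot
  obtain ⟨r, hr, r0⟩ := (Submodule.ne_bot_iff _).1 R0
  let C : Submodule ℂ (End ℂ W) := Submodule.span ℂ {a | ∃ c, ε₂ c = 1 ∧ S.ρ (m 1 c) = a}
  have cm : ∀ a ∈ C, ∀ g, ε₁ g = 1 → S.ρ (m g 1) * a = a * S.ρ (m g 1) := fun a ha g hg => by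
    induction ha using Submodule.span_induction with
    | mem a ha =>
      obtain ⟨c, hc, rfl⟩ := ha
      have s1 : ε (m g 1) = 1 := by rw [h.sgn (by simp [hg]), hg]
      have s2 : ε (m 1 c) = 1 := by rw [h.sgn (by simp [hc]), map_one]
      rw [← S.mul s1 s2, ← S.mul s2 s1, ← h.mul (by simp [hg]) (by simp [hc]),
        ← h.mul (by simp [hc]) (by simp [hg])]
      simp
    | zero => simp
    | add a b _ _ ha hb => rw [mul_add, add_mul, ha, hb]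
    | smul c a _ ha => rw [mul_smul_comm, smul_mul_assoc, ha]
  obtain ⟨M, l, M0, hM⟩ := (h.swap.sit S e1).exists_min (U := C.map (LinearMap.applyₗ r)) (by
    rintro c hc _ ⟨a, ha, rfl⟩
    refine ⟨S.ρ (m 1 c) * a, ?_, rfl⟩
    induction ha using Submodule.span_induction with
    | mem a ha =>
      obtain ⟨d, hd, rfl⟩ := ha
      refine Submodule.subset_span ⟨c * d, by simp [hc, hd], ?_⟩
      rw [← S.mul (by rw [h.sgn (by simp [hc]), map_one]) (by rw [h.sgn (by simp [hd]), map_one]),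
        ← h.mul (by simp [hc]) (by simp [hd]), mul_one]
    | zero => simp
    | add a b _ _ ha hb => rw [mul_add]; exact C.add_mem ha hb
    | smul c a _ ha => rw [mul_smul_comm]; exact C.smul_mem _ ha)
    ((Submodule.ne_bot_iff _).2 ⟨r, ⟨1, Submodule.subset_span ⟨1, by simp, by rw [h.one, S.one]⟩,
      rfl⟩, r0⟩)
  obtain ⟨u, hu, u0⟩ := (Submodule.ne_bot_iff _).1 M0
  obtain ⟨a, ha, ea⟩ := l hu
  have cm' : ∀ g, ε₁ g = 1 → ∀ w, S.ρ (m g 1) (a w) = a (S.ρ (m g 1) w) := fun g hg w =>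
    LinearMap.congr_fun (cm a ha g hg) w
  obtain ⟨y, hy, n⟩ := hb.exists_ne u0
  obtain ⟨y₁, y₂, e', rfl⟩ := hs y
  have f1 : ε₁ y₁ = -1 := by rw [← h.sgn e', hy]
  have f2 : ε₂ y₂ = -1 := by rw [← e', f1]
  have a1 := h1 W (h.sit S f2) (R.map a) ⟨by
    rintro g hg _ ⟨z, hz, rfl⟩
    exact ⟨_, hR.1 g hg z hz, (cm' g hg z).symm⟩, fun U' le i => by
      rcases hR.2 (R ⊓ U'.comap a) inf_le_left (fun g hg z hz => ⟨hR.1 g hg z hz.1, by
        have := i g hg _ hz.2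
        exact (cm' g hg z ▸ this : a _ ∈ U')⟩) with e | e
      · refine Or.inl (eq_bot_iff.2 fun z hz => ?_)
        obtain ⟨t, ht, rfl⟩ := le hz
        have : t ∈ (⊥ : Submodule ℂ W) := e ▸ ⟨ht, hz⟩
        simp_all
      · refine Or.inr (le_antisymm le ?_)
        rintro _ ⟨t, ht, rfl⟩
        exact (e.symm ▸ ht : t ∈ R ⊓ U'.comap a).2⟩ y₁ f1 u ⟨r, hr, ea⟩ u ⟨r, hr, ea⟩
  have a2 := h2 W (h.swap.sit S f1) M hM y₂⁻¹ (by simp [f2]) u hu u hu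
  have a3 := S.skew hy u u
  rw [h.inv e'] at a3
  simp only [Par.sit, LinearMap.add_apply] at a1 a2
  exact n (by linear_combination (a1 - a2 + a3) / 2)

/-- fibre product over the sign -/
def FP (ε₁ : Γ₁ →* ℤˣ) (ε₂ : Γ₂ →* ℤˣ) : Subgroup (Γ₁ × Γ₂) :=
  (ε₁.comp (MonoidHom.fst _ _)).eqLocus (ε₂.comp (MonoidHom.snd _ _))

theorem NQ.fp (h1 : NQ ε₁) (h2 : NQ ε₂) :
    NQ ((ε₁.comp (MonoidHom.fst _ _)).comp (FP ε₁ ε₂).subtype) := by
  classical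
  refine Par.nq (m := fun x y => if h : ε₁ x = ε₂ y then (⟨(x, y), h⟩ : FP ε₁ ε₂) else 1)
    ⟨fun a b => ?_, fun a => by simp [a]⟩ (fun x => ⟨x.1.1, x.1.2, x.2, dif_pos x.2⟩) h1 h2
  rw [dif_pos a, dif_pos b, dif_pos (by simp [a, b])]; rfl

theorem NQ.of_prod {f₁ : Γ →* Γ₁} {f₂ : Γ →* Γ₂} (h1 : NQ ε₁) (h2 : NQ ε₂)
    (e1 : ∀ x, ε₁ (f₁ x) = ε x) (e2 : ∀ x, ε₂ (f₂ x) = ε x)
    (hi : ∀ x, f₁ x = 1 → f₂ x = 1 → x = 1)
    (hs : ∀ g₁ g₂, ε₁ g₁ = 1 → ε₂ g₂ = 1 → ∃ x, f₁ x = g₁ ∧ f₂ x = g₂) : NQ ε :=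
  (h1.fp h2).of_inj ((f₁.prod f₂).codRestrict _ fun x => (e1 x).trans (e2 x).symm) e1
    ((injective_iff_map_eq_one _).2 fun x hx => hi x (congrArg (·.1.1) hx) (congrArg (·.1.2) hx))
    fun g hg => by
      obtain ⟨x, a, b⟩ := hs g.1.1 g.1.2 hg (g.2.symm.trans hg)
      exact ⟨x, Subtype.ext (Prod.ext a b)⟩

end

end Cfsg.Agent.FS
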