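import Cfsg.Agent.FS.B
import Cfsg.Agent.H5.PPart
import Cfsg.Agent.H3.Integral
import Cfsg.Agent.H4.IndRep

/-! A Brauer–Witt type local-global principle for `NQ`. -/

set_option autoImplicit false

namespace Cfsg.Agent.FS

open Module MulAction Cfsg.Agent.H3 Cfsg.Agent.H5
open scoped ComplexConjugate

/-- algebraic integers with odd denominators -/
def O2 : Subring ℂ where
  carrier := {z | ∃ l : ℕ, Odd l ∧ IsIntegral ℤ (l * z)}
  one_mem' := ⟨1, odd_one, by simpa using isIntegral_one⟩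
  zero_mem' := ⟨1, odd_one, by simpa using isIntegral_zero⟩
  mul_mem' := by
    rintro a b ⟨l, h, hl⟩ ⟨m, h', hm⟩
    exact ⟨l * m, h.mul h', by
      rw [show ((l * m : ℕ) : ℂ) * (a * b) = l * a * (m * b) by push_cast; ring]; exact hl.mul hm⟩
  add_mem' := by
    rintro a b ⟨l, h, hl⟩ ⟨m, h', hm⟩
    exact ⟨l * m, h.mul h', by
      rw [show ((l * m : ℕ) : ℂ) * (a + b) = m * (l * a) + l * (m * b) by push_cast; ring]
      exact ((isIntegral_natCast m).mul hl).add ((isIntegral_natCast l).mul hm)⟩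
  neg_mem' := by
    rintro a ⟨l, h, hl⟩
    exact ⟨l, h, by simpa using hl.neg⟩

theorem mem_O2 {z : ℂ} (h : IsIntegral ℤ z) : z ∈ O2 := ⟨1, odd_one, by simpa using h⟩

theorem inv_mem_O2 {l : ℕ} (h : Odd l) : (l : ℂ)⁻¹ ∈ O2 := ⟨l, h, by
  rw [mul_inv_cancel₀ (by exact_mod_cast h.pos.ne')]; exact isIntegral_one⟩

def Ev : AddSubgroup ℂ := O2.toAddSubgroup.map (AddMonoidHom.mulLeft 2)

theorem mem_Ev {z w : ℂ} (h : w ∈ O2) (e : z = 2 * w) : z ∈ Ev := ⟨w, h, e.symm⟩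

theorem Ev_le {z : ℂ} (h : z ∈ Ev) : z ∈ O2 := by
  obtain ⟨w, hw, rfl⟩ := h
  exact O2.mul_mem (natCast_mem O2 2) hw

theorem one_notMem_Ev : (1 : ℂ) ∉ Ev := by
  rintro ⟨w, ⟨l, h, hl⟩, e⟩
  have : w = 1 / 2 := by rw [eq_div_iff two_ne_zero, mul_comm]; exact e
  rw [this, mul_one_div] at hl
  exact h.not_two_dvd_nat (dvd_of_isIntegral_div two_ne_zero (by exact_mod_cast hl))

theorem sum_mem_of_invol {ι : Type*} [Fintype ι] (A : AddSubgroup ℂ) (s : ι → ℂ) (σ : ι → ι)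
    (h0 : ∀ i, σ (σ i) = i) (h1 : ∀ i, s i + s (σ i) ∈ A) (h2 : ∀ i, σ i = i → s i ∈ A) :
    ∑ i, s i ∈ A := by
  rw [← QuotientAddGroup.eq_zero_iff, ← QuotientAddGroup.mk'_apply, map_sum]
  exact Finset.sum_involution (fun i _ => σ i)
    (fun i _ => by rw [← map_add]; exact (QuotientAddGroup.eq_zero_iff _).2 (h1 i))
    (fun i _ n e => n ((QuotientAddGroup.eq_zero_iff _).2 (h2 i e))) (by simp) fun i _ => h0 i

theorem int_sec {G P : Type*} [Group G] [Finite G] [Group P] [Fintype P] (j : P →* G) {κ : G → ℂ}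
    (hκ : IsCharacter G κ) {d : G} (hd : d ∈ Subgroup.center G) {Φ : P → ℂ} (hΦ : IsCharacter P Φ) :
    (Nat.card P : ℂ)⁻¹ * ∑ u, Φ u * κ (d * j u) ∈ O2 := by
  refine hκ.induction_on (P := fun κ => (Nat.card P : ℂ)⁻¹ * ∑ u, Φ u * κ (d * j u) ∈ O2)
    (by simpa using O2.zero_mem) fun χ ψ hχ _ ih => ?_
  simp only [Pi.add_apply, mul_add, Finset.sum_add_distrib]
  refine O2.add_mem ?_ ih
  obtain ⟨ω, h1, h2⟩ := hχ.isCharacter.apply_mul_of_norm_eq (hχ.norm_eq_of_mem_center hd)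
  obtain ⟨n, hn⟩ := (hΦ.mul (hχ.isCharacter.comp j)).exists_nat_classInner isCharacter_one
  have : (Nat.card P : ℂ)⁻¹ * ∑ u, Φ u * χ (d * j u) = ω * n := by
    rw [← hn, classInner, mul_left_comm, Finset.mul_sum _ _ ω]
    congr 1
    exact Finset.sum_congr rfl fun u _ => by
      rw [← Subgroup.mem_center_iff.1 hd, h2]; simp; ring
  rw [this]
  exact O2.mul_mem (mem_O2 (isIntegral_of_pow_eq_one (orderOf_pos d) h1)) (natCast_mem O2 n)

variable {Γ : Type*} [Group Γ] {ε : Γ →* ℤˣ} {W : Type} [AddCommGroup W] [Module ℂ W]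

def Two (u : Γ) : Prop := ∃ k, orderOf u = 2 ^ k

open Classical in
/-- normalised sum over the `2`-elements of the kernel -/
noncomputable def av [Finite Γ] (ε : Γ →* ℤˣ) (f : Γ → ℂ) : ℂ :=
  (Nat.card ε.ker : ℂ)⁻¹ * ∑ᶠ u, if ε u = 1 ∧ Two u then f u else 0

theorem exists_neg {P : Subgroup Γ} (hi : Odd P.index) {x : Γ} (hx : ε x = -1) :
    ∃ y ∈ P, ε y = -1 := by
  by_contra! n
  refine hi.not_two_dvd_nat (Dvd.dvd.trans ?_ (Subgroup.index_dvd_of_le (K := ε.ker) fun y hy =>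
    (Int.units_eq_one_or (ε y)).resolve_right (n y hy)))
  rw [Subgroup.index_ker, show ε.range = ⊤ from eq_top_iff.2 fun s _ => by
    rcases Int.units_eq_one_or s with rfl | rfl
    exacts [⟨1, map_one ε⟩, ⟨x, hx⟩]]
  simp

theorem red [Finite Γ] (ε : Γ →* ℤˣ) (P : Subgroup Γ) (hP : IsPGroup 2 P) (hi : Odd P.index)
    [Fintype (ε.ker.subgroupOf P)] :
    ∃ Φ : Γ → ℂ, IsCharacter Γ Φ ∧ (∀ u, Φ u⁻¹ = Φ u) ∧ ∀ f : Γ → ℂ,
      (∀ u, ε u = 1 → IsIntegral ℤ (f u)) → (∀ t u, ε t = 1 → ε u = 1 → f (t * u * t⁻¹) = f u) →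
      av ε f - (Nat.card (ε.ker.subgroupOf P) : ℂ)⁻¹ *
        ∑ u : ε.ker.subgroupOf P, Φ u * f u ∈ Ev := by
  classical
  have := Fintype.ofFinite Γ
  have := Fintype.ofFinite (Γ ⧸ P)
  have ht : ∀ g, ∃ t, ε t = 1 ∧ t⁻¹ * g ∈ P := fun g => by
    rcases Int.units_eq_one_or (ε g) with h | h
    · exact ⟨g, h, by simp⟩
    · obtain ⟨y, hy, e⟩ := exists_neg hi h
      exact ⟨g * y, by simp [h, e], by simpa using hy⟩
  let r : Γ → ℕ := fun u => Nat.card (fixedBy (Γ ⧸ P) u)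
  have hr : IsCharacter Γ fun u => (r u : ℂ) := isCharacter_permChar _
  obtain ⟨a, ha⟩ := IsPGroup.iff_card.1 hP
  have c1 : Nat.card ε.ker = P.index * Nat.card (ε.ker.subgroupOf P) := by
    have e : P ⊔ ε.ker = ⊤ := eq_top_iff.2 fun g _ => by
      obtain ⟨t, h1, h2⟩ := ht g
      rw [← mul_inv_cancel_left t g]
      exact mul_mem (Subgroup.mem_sup_right h1) (Subgroup.mem_sup_left h2)
    have := Subgroup.relIndex_sup_right P ε.ker
    rw [e, Subgroup.relIndex_top_right] at this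
    refine Nat.eq_of_mul_eq_mul_right ε.ker.index_ne_zero_of_finite.bot_lt ?_
    rw [Subgroup.card_mul_index, mul_assoc, this, Subgroup.relIndex, Subgroup.card_mul_index,
      Subgroup.index_mul_card]
  obtain ⟨b, hb⟩ := (ε.ker.subgroupOf P).card_subgroup_dvd_card
  have fx : ∀ u t : Γ, u • (t : Γ ⧸ P) = t ↔ t⁻¹ * u * t ∈ P := fun u t => by
    rw [Quotient.smul_mk, eq_comm, QuotientGroup.eq, smul_eq_mul, mul_assoc]
  have r0 : ∀ u, ¬ Two u → r u = 0 := fun u hu => by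
    refine Nat.card_eq_zero.2 (Or.inl ⟨fun ⟨q, hq⟩ => hu ?_⟩)
    obtain ⟨t, rfl⟩ := QuotientGroup.mk_surjective q
    have := isPElt_of_mem hP ((fx u t).1 hq)
    rwa [show t⁻¹ * u * t = t⁻¹ * u * t⁻¹⁻¹ by simp, orderOf_conj'] at this
  have r1 : ∀ u, Two u → Odd (r u) := fun u hu => by
    have := (isPGroup_zpowers hu).card_modEq_card_fixedPoints (Γ ⧸ P)
    have e : fixedPoints (Subgroup.zpowers u) (Γ ⧸ P) = fixedBy (Γ ⧸ P) u := by
      ext q
      exact ⟨fun h => h ⟨_, Subgroup.mem_zpowers _⟩, by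
        rintro h ⟨_, i, rfl⟩; exact fixedBy_subset_fixedBy_zpow _ _ i h⟩
    rw [e] at this
    exact Nat.odd_iff.2 (Eq.trans this.symm (Nat.odd_iff.1 hi))
  refine ⟨fun u => (r u : ℂ) ^ (2 ^ a - 1), hr.pow _, fun u => by simp only [r, fixedBy_inv],
    fun f hf hc => ?_⟩
  have fro : ∀ g : Γ → ℂ, (∀ t u, ε t = 1 → ε u = 1 → g (t * u * t⁻¹) = g u) →
      ∑ u, (if ε u = 1 then r u * g u else 0) = P.index * ∑ u : ε.ker.subgroupOf P, g u := by
    intro g hg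
    have : ∀ q : Γ ⧸ P, ∑ u, (if ε u = 1 ∧ u • q = q then g u else 0) =
        ∑ u : ε.ker.subgroupOf P, g u := fun q => by
      obtain ⟨s, rfl⟩ := QuotientGroup.mk_surjective q
      obtain ⟨t, h1, h2⟩ := ht s
      rw [← QuotientGroup.eq.2 h2, ← Equiv.sum_comp (MulAut.conj t).toEquiv, ← Finset.sum_filter]
      refine (Finset.sum_bij (fun (u : ε.ker.subgroupOf P) _ => ((u : P) : Γ)) (fun u _ => ?_)
        (fun u _ v _ h => Subtype.ext (Subtype.ext h)) (fun u hu => ?_)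
        fun u _ => (hg t _ h1 u.2).symm).symm
      · have : ε u = 1 := u.2
        rw [Finset.mem_filter, fx]
        simp [h1, this, mul_assoc]
      · rw [Finset.mem_filter, fx] at hu
        simp [h1, mul_assoc] at hu
        exact ⟨⟨⟨u, hu.2⟩, hu.1⟩, Finset.mem_univ _, rfl⟩
    rw [Subgroup.index, Nat.card_eq_fintype_card, ← nsmul_eq_mul, ← Finset.card_univ,
      ← Finset.sum_const, ← Finset.sum_congr rfl fun q _ => this q, Finset.sum_comm]
    refine Finset.sum_congr rfl fun u _ => ?_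
    split_ifs with h
    · simp only [h, true_and, ← Finset.sum_filter, Finset.sum_const, nsmul_eq_mul, r]
      rw [Nat.card_eq_fintype_card, Fintype.card_subtype]; rfl
    · simp [h]
  have i0 : (P.index : ℂ) ≠ 0 := by exact_mod_cast hi.pos.ne'
  have p0 : (Nat.card (ε.ker.subgroupOf P) : ℂ) ≠ 0 := natCard_ne_zero
  have cg : ∀ u, Two u → ∃ m : ℕ, (r u : ℂ) * (r u : ℂ) ^ (2 ^ a - 1) = 1 + 2 ^ (a + 1) * m :=
    fun u hu => by
      have h := Nat.ModEq.pow_totient (((r1 u hu).coprime_two_right).pow_right (a + 1))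
      rw [Nat.totient_prime_pow_succ Nat.prime_two] at h
      obtain ⟨m, hm⟩ := (Nat.modEq_iff_exists_eq_add
        (Nat.one_le_pow _ _ (r1 u hu).pos)).1 h.symm
      refine ⟨m, ?_⟩
      rw [← pow_succ', Nat.sub_add_cancel Nat.one_le_two_pow]
      simpa using congrArg (Nat.cast : ℕ → ℂ) hm
  choose! m hm using cg
  have e := fro (fun u => (r u : ℂ) ^ (2 ^ a - 1) * f u) fun t u h1 h2 => by
    rw [hc t u h1 h2, show (r (t * u * t⁻¹) : ℂ) = r u from hr.isClassFunction u t]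
  have e2 : ∑ u, (if ε u = 1 then (r u : ℂ) * ((r u : ℂ) ^ (2 ^ a - 1) * f u) else 0) =
      (∑ u, if ε u = 1 ∧ Two u then f u else 0) +
        2 ^ (a + 1) * ∑ u, if ε u = 1 ∧ Two u then m u * f u else 0 := by
    rw [Finset.mul_sum, ← Finset.sum_add_distrib]
    refine Finset.sum_congr rfl fun u _ => ?_
    by_cases h1 : ε u = 1 <;> by_cases h2 : Two u <;> simp [h1, h2, r0]
    rw [← mul_assoc, hm u h2]; ring
  refine mem_Ev (w := -((P.index : ℂ)⁻¹ * b * ∑ u, if ε u = 1 ∧ Two u then m u * f u else 0))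
    (O2.neg_mem (O2.mul_mem (O2.mul_mem (inv_mem_O2 hi) (natCast_mem O2 b)) (O2.sum_mem fun u _ => by
      split_ifs with h
      · exact O2.mul_mem (natCast_mem O2 _) (mem_O2 (hf u h.1))
      · exact O2.zero_mem))) ?_
  have e3 : (2 : ℂ) ^ a = Nat.card (ε.ker.subgroupOf P) * b := by exact_mod_cast ha ▸ hb
  rw [av, finsum_eq_sum_of_fintype, c1, eq_sub_of_add_eq e2.symm, e, pow_succ, e3]
  push_cast
  field_simp
  ring

namespace Sit

variable (S : Sit ε W)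

noncomputable def χ (g : Γ) : ℂ := LinearMap.trace ℂ W (S.ρ g)

noncomputable def Θ (g : Γ) : ℂ := S.χ g * S.χ g⁻¹

variable [FiniteDimensional ℂ W]

theorem isChar {P : Type*} [Group P] (j : P →* Γ) (h : ∀ p, ε (j p) = 1) :
    IsCharacter P fun p => S.χ (j p) :=
  (isCharacter_character S.rep).comp (j.codRestrict ε.ker h)

theorem χ_conj {t u : Γ} (ht : ε t = 1) (hu : ε u = 1) : S.χ (t * u * t⁻¹) = S.χ u :=
  (S.isChar ε.ker.subtype fun p => p.2).isClassFunction ⟨u, hu⟩ ⟨t, ht⟩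

theorem Θ_conj {t u : Γ} (ht : ε t = 1) (hu : ε u = 1) : S.Θ (t * u * t⁻¹) = S.Θ u := by
  rw [Θ, conj_inv, S.χ_conj ht hu, S.χ_conj ht (by simp [hu]), Θ]

theorem Θ_int [Finite Γ] {u : Γ} (hu : ε u = 1) : IsIntegral ℤ (S.Θ u) :=
  ((S.isChar ε.ker.subtype fun p => p.2).isIntegral ⟨u, hu⟩).mul
    ((S.isChar ε.ker.subtype fun p => p.2).isIntegral ⟨u, hu⟩⁻¹)

theorem ND.Θ {S : Sit ε W} (h : S.ND) {x g : Γ} (hx : ε x = -1) (hg : ε g = 1) :
    S.Θ (x⁻¹ * g⁻¹ * x) = S.Θ g := by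
  rw [Sit.Θ, Sit.Θ, show (x⁻¹ * g⁻¹ * x)⁻¹ = x⁻¹ * g⁻¹⁻¹ * x by group]
  exact congrArg₂ _ (h.trace hx hg) (h.trace hx (by simp [hg]))

end Sit

theorem exists_syl [Finite Γ] (K : Subgroup Γ) (hi : Odd K.index) :
    ∃ P ≤ K, IsPGroup 2 P ∧ Odd P.index := by
  obtain ⟨P⟩ : Nonempty (Sylow 2 K) := inferInstance
  refine ⟨P.1.map K.subtype, Subgroup.map_subtype_le _, P.2.map _, ?_⟩
  rw [Subgroup.index_map_subtype]
  exact (Nat.not_even_iff_odd.1 fun h => P.not_dvd_index h.two_dvd).mul hi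

variable [Finite Γ] [FiniteDimensional ℂ W] {S : Sit ε W}

theorem sec_int (S : Sit ε W) {d : Γ} (e : ε d = 1) (hd : ∀ x, ε x = 1 → x * d = d * x) :
    av ε (fun u => S.Θ (d * u)) ∈ O2 := by
  obtain ⟨P, -, hP, hi⟩ := exists_syl (⊤ : Subgroup Γ) (by simp)
  have := Fintype.ofFinite (ε.ker.subgroupOf P)
  obtain ⟨Φ, h1, -, h3⟩ := red ε P hP hi
  have := Ev_le (h3 (fun u => S.Θ (d * u)) (fun u hu => S.Θ_int (by simp [e, hu]))
    fun t u ht hu => by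
      rw [← S.Θ_conj ht (u := d * u) (by simp [e, hu]), ← mul_assoc t d, hd t ht]; group)
  refine sub_add_cancel (av ε _) _ ▸ O2.add_mem this ?_
  have c := S.isChar ε.ker.subtype fun p => p.2
  exact int_sec ((P.subtype.comp (ε.ker.subgroupOf P).subtype).codRestrict ε.ker fun p => p.2)
    (c.mul c.comp_inv) (d := ⟨d, e⟩) (Subgroup.mem_center_iff.2 fun g => Subtype.ext (hd g g.2))
    (h1.comp (P.subtype.comp (ε.ker.subgroupOf P).subtype))

theorem sec (nd : S.ND) {d : Γ} (e : ε d = 1) (hd : ∀ x, x * d * x⁻¹ = d ^ (ε x : ℤ))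
    (K : Subgroup Γ) (hK : Odd K.index) (dK : d ∈ K) {x : Γ} (hx : ε x = -1)
    (nq : NQ (ε.comp K.subtype)) : av ε (fun u => S.Θ (d * u)) ∈ Ev := by
  obtain ⟨P, le, hP, hi⟩ := exists_syl K hK
  obtain ⟨x, xP, hx⟩ := exists_neg hi hx
  have hd' : ∀ x, ε x = 1 → x * d = d * x := fun x h => by
    rw [← mul_inv_eq_iff_eq_mul, hd, h]; simp
  have := Fintype.ofFinite (ε.ker.subgroupOf P)
  obtain ⟨Φ, h1, h2, h3⟩ := red ε P hP hi
  have := h3 (fun u => S.Θ (d * u)) (fun u hu => S.Θ_int (by simp [e, hu]))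
    fun t u ht hu => by
      rw [← S.Θ_conj ht (u := d * u) (by simp [e, hu]), ← mul_assoc t d, hd' t ht]; group
  refine sub_add_cancel (av ε _) _ ▸ Ev.add_mem this ?_
  obtain ⟨θ, t1, t2⟩ := nq.hyp (S.comap K.subtype fun _ => rfl) (fun y hy => nd y hy)
    (x := ⟨x, le xP⟩) hx
  let j : ε.ker.subgroupOf P →* (ε.comp K.subtype).ker :=
    ((Subgroup.inclusion le).comp (ε.ker.subgroupOf P).subtype).codRestrict _ fun p => p.2
  have c := S.isChar (K.subtype.comp (ε.comp K.subtype).ker.subtype) fun p => p.2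
  refine mem_Ev (int_sec j (t1.mul c.comp_inv) (d := ⟨⟨d, dK⟩, e⟩) (Subgroup.mem_center_iff.2
    fun g => Subtype.ext (Subtype.ext (hd' _ g.2)))
    (h1.comp (P.subtype.comp (ε.ker.subgroupOf P).subtype))) ?_
  let σ : ε.ker.subgroupOf P ≃ ε.ker.subgroupOf P :=
    (Equiv.inv _).trans (MulAut.conjNormal (⟨x, xP⟩ : P)⁻¹).toEquiv
  have hσ : ∀ u, ((σ u : P) : Γ) = x⁻¹ * ((u : P) : Γ)⁻¹ * x := fun u => by
    simp [σ, mul_assoc]
  have k : ∀ u : ε.ker.subgroupOf P, d * ((σ u : P) : Γ) = x⁻¹ * (d * (u : P))⁻¹ * x := fun u => by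
    have := hd x⁻¹
    rw [map_inv, hx] at this
    have h' : x⁻¹ * d⁻¹ * x = d := by
      rw [← inv_inj]; simpa [mul_assoc] using this
    rw [← hd' ((σ u : P) : Γ) (σ u).2, hσ]
    conv_lhs => rw [← h']
    group
  rw [mul_left_comm, two_mul]
  congr 1
  nth_rw 2 [← Equiv.sum_comp σ]
  rw [← Finset.sum_add_distrib]
  refine Finset.sum_congr rfl fun u _ => ?_
  have eu : ε (u : P) = 1 := u.2
  have a1 := t2 (⟨d, dK⟩ * j u) (show ε (d * (u : P)) = 1 by simp [e, eu])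
  have a2 : (⟨x, le xP⟩⁻¹ * ((⟨d, dK⟩ : K) * j u)⁻¹ * ⟨x, le xP⟩ : K) = ⟨d, dK⟩ * j (σ u) :=
    Subtype.ext (k u).symm
  have a3 : S.χ (d * ((σ u : P) : Γ))⁻¹ = S.χ (d * (u : P))⁻¹ := by
    rw [k, show (x⁻¹ * (d * (u : P))⁻¹ * x)⁻¹ = x⁻¹ * (d * ((u : P) : Γ))⁻¹⁻¹ * x by group]
    exact nd.trace hx (by simp [e, eu])
  have a4 : Φ ((σ u : P) : Γ) = Φ (u : P) := by rw [hσ, h1.isClassFunction.conj_inv, h2]
  rw [a2] at a1
  change Φ _ * (S.χ _ * S.χ _) =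
    Φ ((σ u : P) : Γ) * (θ (⟨d, dK⟩ * j (σ u)) * S.χ (d * ((σ u : P) : Γ))⁻¹) +
      Φ (u : P) * (θ (⟨d, dK⟩ * j u) * S.χ (d * (u : P))⁻¹)
  rw [a3, a4, show S.χ (d * (u : P)) = _ from a1]
  ring

end Cfsg.Agent.FS
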