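import Cfsg.Agent.FS.C

/-! The Brauer–Witt step, the Heisenberg step and the passage to Frobenius–Schur indicators. -/

set_option autoImplicit false

namespace Cfsg.Agent.FS

open Module Cfsg.Agent.H3 Cfsg.Agent.H5

variable {Γ : Type*} [Group Γ] {ε : Γ →* ℤˣ} {W : Type} [AddCommGroup W] [Module ℂ W]

/-- elements centralising or inverting `d` according to their sign -/
def Ne (ε : Γ →* ℤˣ) (d : Γ) : Subgroup Γ where
  carrier := {x | x * d * x⁻¹ = d ^ (ε x : ℤ)}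
  one_mem' := by simp
  mul_mem' {x y} hx hy := by
    simp only [Set.mem_setOf_eq] at *
    rw [show x * y * d * (x * y)⁻¹ = x * (y * d * y⁻¹) * x⁻¹ by group, hy, ← conj_zpow, hx,
      ← zpow_mul, map_mul, Units.val_mul]
  inv_mem' {x} hx := by
    simp only [Set.mem_setOf_eq] at *
    rcases Int.units_eq_one_or (ε x) with h | h
    · simp only [h, map_inv, inv_one, Units.val_one, zpow_one] at hx ⊢
      nth_rw 1 [← hx]; group
    · simp only [h, map_inv, inv_neg, inv_one, Units.val_neg, Units.val_one, zpow_neg,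
        zpow_one] at hx ⊢
      nth_rw 1 [← inv_inv d, ← hx]; group

variable [Finite Γ] [FiniteDimensional ℂ W] {S : Sit ε W}

omit [Finite Γ] [FiniteDimensional ℂ W] in
theorem Sit.Bad.irr (hb : S.Bad) : S.rep.IsIrreducible :=
  (H4.isIrreducible_iff_submodule _).2 ⟨hb.nt, fun U h => hb.min.2 U le_top fun g e => h ⟨g, e⟩⟩

theorem card_ker_eq [Fintype Γ] (ε : Γ →* ℤˣ) :
    (Nat.card ε.ker : ℂ) = ∑ g, if ε g = 1 then 1 else 0 := by
  rw [Finset.sum_boole, Nat.card_eq_fintype_card, Fintype.card_subtype]; simp [MonoidHom.mem_ker]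

theorem bw (hb : S.Bad) (h1 : ∀ d, ε d = 1 → Odd (orderOf d) → (∀ g, ε g = 1 → g * d = d * g) ∨
    NQ (ε.comp (Ne ε d).subtype)) (h2 : av ε S.Θ ∈ Ev) : False := by
  classical
  have := Fintype.ofFinite Γ
  have := hb.irr
  have ir : IsIrrCharacter ε.ker fun g => S.χ g := isIrrCharacter_character S.rep
  obtain ⟨x, hx⟩ := hb.ex
  let f : ε.ker → ℂ := fun d => ∑ g : ε.ker, if pReg 2 g = d then S.Θ g else 0
  let s : ε.ker → ℂ := fun d => (Nat.card (Subgroup.centralizer {d}) : ℂ)⁻¹ * f d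
  have fa : ∀ (α : ε.ker ≃* ε.ker) d, (∀ g, S.Θ (α g) = S.Θ g) → f (α d) = f d := fun α d h => by
    simp only [f]
    rw [← Equiv.sum_comp α.toEquiv]
    refine Finset.sum_congr rfl fun g _ => if_congr ?_ (h g) rfl
    rw [← α.injective.eq_iff (a := pReg 2 g)]
    simp [pReg, pPart]
  have fi : ∀ d, f d⁻¹ = f d := fun d => by
    simp only [f]
    rw [← Equiv.sum_comp (Equiv.inv _)]
    refine Finset.sum_congr rfl fun g _ => if_congr ?_ (by simp [Sit.Θ, mul_comm]) rfl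
    rw [← inv_inj (a := pReg 2 g), Equiv.inv_apply, pReg, pPart_inv, pReg, mul_inv_rev,
      (commute_pPart g).inv_inv.inv_left.eq]
  have fc : IsClassFunction ε.ker f := fun d t => fa (MulAut.conj t) d fun g => S.Θ_conj t.2 g.2
  let α : ε.ker ≃* ε.ker := MulAut.conjNormal x⁻¹
  have hα : ∀ g, (α g : Γ) = x⁻¹ * g * x := fun g => by simp [α]
  have sa : ∀ d, s (α d)⁻¹ = s d := fun d => by
    simp only [s]
    rw [fi, fa α d fun g => by
      rw [hα, ← inv_inv (g : Γ), hb.nd.Θ hx (inv_mem g.2)]; simp [Sit.Θ, mul_comm]]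
    congr 3
    refine Nat.card_congr (α.toEquiv.subtypeEquiv fun g => ?_).symm
    simp only [Subgroup.mem_centralizer_singleton_iff, MulEquiv.toEquiv_eq_coe, EquivLike.coe_coe]
    rw [← α.injective.eq_iff, map_mul, map_mul]
    exact (Commute.inv_right_iff (a := α g)).symm
  have sc : ∀ {a b}, IsConj a b → s a = s b := fun h => by
    simp only [s]; rw [fc.eq_of_isConj h, card_centralizer_eq_of_isConj h]
  have e1 : ∑ C : ConjClasses ε.ker, s C.out = 1 := by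
    have a := ir.classInner_self
    have b := sum_eq_sum_conjClasses fc
    rw [Finset.sum_comm] at b
    simp only [Finset.sum_ite_eq, Finset.mem_univ, if_true] at b
    rw [classInner, Finset.sum_congr rfl fun g _ => by rw [← ir.apply_inv]] at a
    rw [← a, show ∑ g : ε.ker, S.χ g * S.χ ((g⁻¹ : ε.ker) : Γ) = _ from b, Finset.mul_sum]
    refine Finset.sum_congr rfl fun C _ => ?_
    rw [← card_centralizer_mul_index C.out, mul_inv, mul_assoc, inv_mul_cancel_left₀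
      (by exact_mod_cast Subgroup.index_ne_zero_of_finite)]
  have s0 : ∀ d : ε.ker, ¬ Odd (orderOf d) → s d = 0 := fun d h => by
    simp only [s, f]
    rw [Finset.sum_eq_zero fun g _ => if_neg ?_, mul_zero]
    rintro rfl
    exact h (Nat.not_even_iff_odd.1 fun e => pReg_pReg g e.two_dvd)
  have s1 : ∀ (d : ε.ker) (N : Subgroup Γ), Odd (orderOf d) →
      (∀ g, ε g = 1 → (g ∈ N ↔ g * d = d * g)) →
      s d = av (ε.comp N.subtype) fun u => S.Θ (d * u) := fun d N h hN => by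
    simp only [s, f, av, finsum_eq_sum_of_fintype]
    have cm : ∀ g : ε.ker, g ∈ Subgroup.centralizer {d} ↔ (g : Γ) ∈ N := fun g => by
      rw [hN g g.2, Subgroup.mem_centralizer_singleton_iff, Subtype.ext_iff]; rfl
    congr 1
    · congr 2
      exact Nat.card_congr ⟨fun g => ⟨⟨g.1, (cm _).1 g.2⟩, g.1.2⟩,
        fun g => ⟨⟨g.1, g.2⟩, (cm _).2 g.1.2⟩, fun _ => rfl, fun _ => rfl⟩
    rw [← Finset.sum_filter, ← Finset.sum_filter]
    refine (Finset.sum_bij' (fun g hg => (⟨(pPart 2 g : ε.ker), (cm _).1 ?_⟩ : N))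
      (fun u hu => d * ⟨u, (Finset.mem_filter.1 hu).2.1⟩) (fun g hg => ?_) (fun u hu => ?_)
      (fun g hg => ?_) (fun u hu => ?_) fun g hg => ?_)
    · rw [← (Finset.mem_filter.1 hg).2]
      exact Subgroup.mem_centralizer_singleton_iff.2 (commute_pPart_pReg g)
    · refine Finset.mem_filter.2 ⟨Finset.mem_univ _, (pPart 2 g).2, ?_⟩
      simpa [Two, ← Subgroup.orderOf_coe] using pPart_pElt (p := 2) g
    · obtain ⟨-, a, b⟩ := Finset.mem_filter.1 hu
      have c : Commute (⟨u, a⟩ : ε.ker) d := Subtype.ext ((hN u a).1 u.2)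
      refine Finset.mem_filter.2 ⟨Finset.mem_univ _, ?_⟩
      rw [← c.eq]
      exact pReg_mul_of c (by simpa [Two, ← Subgroup.orderOf_coe] using b) h.not_two_dvd_nat
    · simp only [← (Finset.mem_filter.1 hg).2]
      exact pReg_mul_pPart g
    · obtain ⟨-, a, b⟩ := Finset.mem_filter.1 hu
      have c : Commute (⟨u, a⟩ : ε.ker) d := Subtype.ext ((hN u a).1 u.2)
      refine Subtype.ext ?_
      simp only [← c.eq]
      rw [pPart_mul_of c (by simpa [Two, ← Subgroup.orderOf_coe] using b) h.not_two_dvd_nat]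
    · simp only [← (Finset.mem_filter.1 hg).2]
      exact congrArg (fun g : ε.ker => S.Θ g) (pReg_mul_pPart g).symm
  have mN : ∀ (d : ε.ker) g, ε g = 1 → (g ∈ Ne ε d ↔ g * d = d * g) := fun d g hg => by
    change g * d * g⁻¹ = _ ↔ _
    rw [hg, mul_inv_eq_iff_eq_mul]; simp
  have dN : ∀ d : ε.ker, (d : Γ) ∈ Ne ε d := fun d => (mN d d d.2).2 rfl
  have s2 : ∀ d, s d ∈ O2 := fun d => by
    by_cases h : Odd (orderOf d)
    · rw [s1 d _ h (mN d)]
      exact sec_int (S.comap (Ne ε d).subtype fun _ => rfl) (d := ⟨d, dN d⟩) d.2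
        fun g hg => Subtype.ext ((mN d g hg).1 g.2)
    · rw [s0 d h]; exact O2.zero_mem
  have ci : ∀ {a b : ε.ker}, IsConj a b → IsConj (α a)⁻¹ (α b)⁻¹ := fun h => by
    obtain ⟨c, rfl⟩ := isConj_iff.1 h
    exact isConj_iff.2 ⟨α c, by simp [mul_assoc]⟩
  refine one_notMem_Ev (e1 ▸ sum_mem_of_invol Ev _ (fun C => ConjClasses.mk (α C.out)⁻¹)
    (fun C => ?_) (fun C => ?_) fun C hC => ?_)
  · conv_rhs => rw [← Quotient.out_eq C]
    refine ConjClasses.mk_eq_mk_iff_isConj.2 ((ci (isConj_out_mk _)).trans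
      (isConj_iff.2 ⟨⟨x * x, by simp [MonoidHom.mem_ker, hx]⟩, Subtype.ext ?_⟩))
    simp [hα, mul_assoc]
  · rw [sc (isConj_out_mk _), sa]
    exact mem_Ev (s2 _) (two_mul _).symm
  by_cases h : Odd (orderOf C.out)
  swap
  · rw [s0 _ h]; exact Ev.zero_mem
  rcases h1 _ C.out.2 (by rwa [Subgroup.orderOf_coe]) with c | c
  · rw [s1 _ ⊤ h fun g hg => by simp [c g hg]]
    obtain ⟨ω, o1, o2⟩ := ir.isCharacter.apply_mul_of_norm_eq (ir.norm_eq_of_mem_center
      (z := C.out) (Subgroup.mem_center_iff.2 fun g => Subtype.ext (c g g.2)))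
    have : ∀ u, ε u = 1 → S.Θ (C.out * u) = S.Θ u := fun u hu => by
      have a := o2 ⟨u, hu⟩
      have b := o2 (C.out * ⟨u, hu⟩)⁻¹
      simp only [mul_inv_rev, inv_mul_cancel_right, Subgroup.coe_mul, Subgroup.coe_inv] at a b
      rw [Sit.Θ, Sit.Θ, b, ← c u hu, a, c u hu, mul_inv_rev]; ring
    convert h2 using 1
    simp only [av]
    congr 1
    · congr 2
      exact Nat.card_congr ⟨fun g => ⟨g.1, g.2⟩, fun g => ⟨⟨g, trivial⟩, g.2⟩, fun _ => rfl,
        fun _ => rfl⟩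
    · rw [← finsum_comp_equiv (Subgroup.topEquiv (G := Γ)).toEquiv]
      exact finsum_congr fun u => if_ctx_congr (and_congr_right fun _ => by
        simp [Two, ← Subgroup.orderOf_coe]) (fun h => this _ h.1) fun _ => rfl
  · obtain ⟨t, ht⟩ := isConj_iff.1 (ConjClasses.mk_eq_mk_iff_isConj.1 (hC.trans C.out_eq.symm))
    have ht := congrArg Subtype.val ht
    simp only [Subgroup.coe_mul, Subgroup.coe_inv, hα] at ht
    have et : ε t = 1 := t.2
    rw [s1 _ _ h (mN _)]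
    refine sec (S := S.comap (Ne ε C.out).subtype fun _ => rfl) (fun y hy => hb.nd y hy)
      (d := ⟨C.out, dN _⟩) C.out.2 (fun y => Subtype.ext (by
        rw [Subgroup.coe_zpow]; exact y.2)) ⊤ (by simp) trivial
      (x := ⟨t * x⁻¹, ?_⟩) (by simp [et, hx])
      (c.of_inj (Subgroup.subtype _) (fun _ => rfl) Subtype.val_injective fun g _ => ⟨⟨g, trivial⟩, rfl⟩)
    change _ = _
    simp only [map_mul, map_inv, et, hx]
    nth_rw 2 [← ht]
    simp [mul_assoc]

omit [Finite Γ] in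
theorem sum_HL [Fintype Γ] {H L : Subgroup Γ} [Fintype H] [Fintype L]
    (hHL : ∀ x, ∃ h ∈ H, ∃ y ∈ L, x = h * y) (dj : ∀ y ∈ H, y ∈ L → y = 1) (F : Γ → ℂ) :
    ∑ g, F g = ∑ y : L, ∑ h : H, F (h * y) := by
  rw [← Fintype.sum_prod_type' (f := fun (y : L) (h : H) => F (h * y))]
  refine (Fintype.sum_bijective (fun p : L × H => (p.2 : Γ) * p.1) ⟨fun p q e => ?_, fun g => ?_⟩
    _ _ fun _ => rfl).symm
  · have e' : ((q.2 : Γ))⁻¹ * p.2 = q.1 * (p.1 : Γ)⁻¹ := by
      rw [inv_mul_eq_iff_eq_mul, ← mul_assoc, eq_mul_inv_iff_mul_eq]; exact e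
    have := dj _ (H.mul_mem (H.inv_mem q.2.2) p.2.2) (e' ▸ L.mul_mem q.1.2 (L.inv_mem p.1.2))
    exact Prod.ext (Subtype.ext (mul_inv_eq_one.1 (e' ▸ this)).symm)
      (Subtype.ext (inv_mul_eq_one.1 this).symm)
  · obtain ⟨h, hh, y, hy, rfl⟩ := hHL g
    exact ⟨(⟨y, hy⟩, ⟨h, hh⟩), rfl⟩

theorem heis (hb : S.Bad) (H L Z : Subgroup Γ) [hn : H.Normal] (hH : ∀ h ∈ H, ε h = 1)
    (h2 : IsPGroup 2 H) (hHL : ∀ x, ∃ h ∈ H, ∃ y ∈ L, x = h * y) (dj : ∀ y ∈ H, y ∈ L → y = 1)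
    (hZ : ∀ z ∈ Z, ε z = 1 ∧ ∀ g, ε g = 1 → g * z = z * g)
    (hv : ∀ h ∈ H, h ∉ Z → ∃ h' ∈ H, S.ρ (h' * h * h'⁻¹) = -S.ρ h)
    {c : Γ} (cL : c ∈ L) (ec : ε c = 1) (hc : ∀ y ∈ L, y * c * y⁻¹ = c ^ (ε y : ℤ))
    (f0 : ∀ h ∈ H, h * c⁻¹ * h⁻¹ * c ∈ Z → h * c⁻¹ * h⁻¹ * c = 1)
    (f1 : ∀ y ∈ L, ε y = 1 → Two y → ∀ h ∈ H, ∃ h' ∈ H, ∃ z ∈ Z,
      h * (c * y) = h' * (c * y) * h'⁻¹ * z)
    (nq : NQ (ε.comp L.subtype)) : av ε S.Θ ∈ Ev := by
  classical
  have := Fintype.ofFinite Γ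
  have := hb.irr
  have := hb.nt
  have ir : IsIrrCharacter ε.ker fun g => S.χ g := isIrrCharacter_character S.rep
  have cc : ∀ y ∈ L, ε y = 1 → y * c⁻¹ * y⁻¹ = c⁻¹ := fun y hy e => by
    rw [← conj_inv, hc y hy, e]; simp
  let E : End ℂ W := ∑ h : H, S.ρ (h * c⁻¹ * (h : Γ)⁻¹)
  obtain ⟨κ, hκ⟩ := exists_eq_smul_id_of_comm S.rep E fun g v => by
    obtain ⟨h, hh, y, hy, e⟩ := hHL g
    have eg : ε g = 1 := g.2
    have ey : ε y = 1 := by simpa [e, hH h hh] using eg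
    change E (S.ρ g v) = S.ρ g (E v)
    simp only [E, LinearMap.sum_apply, map_sum]
    rw [← Equiv.sum_comp ((MulAut.conjNormal y).toEquiv.trans (Equiv.mulLeft (⟨h, hh⟩ : H)))]
    refine Finset.sum_congr rfl fun k _ => ?_
    rw [← S.mul' (by simp [hH _ (SetLike.coe_mem _), ec]) eg, ← S.mul' eg (by simp [ec])]
    congr 2
    nth_rw 1 [← cc y hy ey]
    simp [e, mul_assoc]
  have mem : ∀ h : H, h * c⁻¹ * (h : Γ)⁻¹ * c ∈ H := fun h => by
    simpa [mul_assoc] using H.mul_mem h.2 (hn.conj_mem' _ (H.inv_mem h.2) c)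
  have e1 : κ • S.ρ c = ∑ h : H, S.ρ (h * c⁻¹ * (h : Γ)⁻¹ * c) := by
    rw [Finset.sum_congr rfl fun (h : H) _ => S.mul (by simp [ec]) ec, ← Finset.sum_mul]
    change _ = E * _
    rw [hκ]; rfl
  have k0 : κ ≠ 0 := by
    rintro rfl
    have := congrArg (LinearMap.trace ℂ W) e1
    rw [zero_smul, map_zero, map_sum, Finset.sum_congr rfl fun (h : H) _ => show _ =
      if h * c⁻¹ * (h : Γ)⁻¹ * c = 1 then (finrank ℂ W : ℂ) else 0 by
        split_ifs with e
        · rw [e, S.one]; simp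
        · obtain ⟨k, hk, e'⟩ := hv _ (mem h) fun z => e (f0 h h.2 z)
          have := S.χ_conj (hH k hk) (hH _ (mem h))
          rw [Sit.χ, e', map_neg] at this
          exact neg_eq_self.1 this,
      ← Finset.sum_filter, Finset.sum_const, nsmul_eq_mul] at this
    refine mul_ne_zero ?_ ?_ this.symm
    · exact_mod_cast (Finset.card_pos.2 ⟨1, by simp⟩).ne'
    · exact_mod_cast finrank_pos.ne'
  let Q : End ℂ W → End ℂ W → ℂ := fun A B =>
    ∑ h : H, LinearMap.trace ℂ W (S.ρ h * A) * LinearMap.trace ℂ W (B * S.ρ (h : Γ)⁻¹)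
  have Q1 : ∀ k ∈ H, ∀ A B, Q (S.ρ k * A) B = Q A (B * S.ρ k) := fun k hk A B => by
    simp only [Q]
    rw [← Equiv.sum_comp (Equiv.mulRight (⟨k, hk⟩ : H)) fun h : H =>
      LinearMap.trace ℂ W (S.ρ h * A) * _]
    refine Finset.sum_congr rfl fun h _ => ?_
    simp only [Equiv.coe_mulRight, Subgroup.coe_mul]
    rw [S.mul (hH _ h.2) (hH k hk), mul_assoc B, ← S.mul (hH k hk) (by simp [hH _ h.2, hH k hk]),
      mul_assoc]
    simp
  have Q2 : ∀ A B, Q (S.ρ c * A) B = Q A (B * S.ρ c) := fun A B => mul_left_cancel₀ k0 (by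
    have a : κ * Q (S.ρ c * A) B = ∑ h : H, Q (S.ρ (h * c⁻¹ * (h : Γ)⁻¹ * c) * A) B := by
      simp only [Q]
      rw [Finset.sum_comm, Finset.mul_sum]
      refine Finset.sum_congr rfl fun h _ => ?_
      rw [← Finset.sum_mul, ← map_sum, ← Finset.mul_sum, ← Finset.sum_mul, ← e1]
      simp [mul_assoc]
    have b : κ * Q A (B * S.ρ c) = ∑ h : H, Q A (B * S.ρ (h * c⁻¹ * (h : Γ)⁻¹ * c)) := by
      simp only [Q]
      rw [Finset.sum_comm, Finset.mul_sum]
      refine Finset.sum_congr rfl fun h _ => ?_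
      rw [← Finset.mul_sum, ← map_sum, ← Finset.sum_mul, ← Finset.mul_sum, ← e1]
      simp [mul_left_comm]
    rw [a, b]
    exact Finset.sum_congr rfl fun h _ => Q1 _ (mem h) A B)
  have key : ∀ y ∈ L, ε y = 1 → Two y → ∑ h : H, S.Θ (h * y) = Nat.card H * S.Θ (c * y) :=
    fun y hy ey t => by
      have q : ∀ g, ε g = 1 → ∑ h : H, S.Θ (h * g) = Q (S.ρ g) (S.ρ g⁻¹) := fun g hg =>
        Finset.sum_congr rfl fun h _ => by
          rw [Sit.Θ, Sit.χ, Sit.χ, mul_inv_rev, S.mul (hH _ h.2) hg,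
            S.mul (by simp [hg]) (by simp [hH _ h.2])]
      have : ∑ h : H, S.Θ (h * y) = ∑ h : H, S.Θ (h * (c * y)) := by
        rw [q y ey, q _ (by simp [ec, ey]), S.mul ec ey, Q2, ← S.mul (by simp [ec, ey]) ec]
        simp
      rw [this, Finset.sum_congr rfl fun (h : H) _ => show _ = S.Θ (c * y) from ?_]
      · simp
      obtain ⟨k, hk, z, hz, e⟩ := f1 y hy ey t h h.2
      obtain ⟨ω, -, o2⟩ := ir.isCharacter.apply_mul_of_norm_eq (ir.norm_eq_of_mem_center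
        (z := ⟨z, (hZ z hz).1⟩) (Subgroup.mem_center_iff.2 fun g => Subtype.ext ((hZ z hz).2 g g.2)))
      have eg : ε (k * (c * y) * k⁻¹) = 1 := by simp [ec, ey]
      have a := o2 ⟨_, eg⟩
      have b := o2 (⟨z, (hZ z hz).1⟩ * ⟨_, eg⟩)⁻¹
      rw [mul_inv_rev, inv_mul_cancel_right] at b
      simp only [Subgroup.coe_mul, Subgroup.coe_inv] at a b
      rw [e, ← S.Θ_conj (hH k hk) (u := c * y) (by simp [ec, ey]), Sit.Θ, Sit.Θ, a, b,
        (hZ z hz).2 _ eg, mul_inv_rev z]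
      ring
  have tw : ∀ h ∈ H, ∀ y ∈ L, (Two (h * y) ↔ Two y) := fun h hh y hy => by
    have e : ∀ n : ℕ, (h * y) ^ n * (y ^ n)⁻¹ ∈ H := fun n => by
      rw [← QuotientGroup.eq_one_iff]
      simp [(QuotientGroup.eq_one_iff h).2 hh]
    constructor
    · rintro ⟨k, hk⟩
      have := e (2 ^ k)
      rw [← hk, pow_orderOf_eq_one, one_mul, hk] at this
      exact isPElt_of_pow (inv_eq_one.1 (dj _ this (L.inv_mem (L.pow_mem hy _))))
    · rintro ⟨k, hk⟩
      have := e (2 ^ k)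
      rw [← hk, pow_orderOf_eq_one, inv_one, mul_one, hk] at this
      obtain ⟨m, hm⟩ := h2 ⟨_, this⟩
      exact isPElt_of_pow (k := k + m) (by rw [pow_add, pow_mul]; exact congrArg Subtype.val hm)
  obtain ⟨x, hx⟩ := hb.ex
  obtain ⟨h, hh, y, hy, rfl⟩ := hHL x
  have := sec (ε := ε.comp L.subtype) (S := S.comap L.subtype fun _ => rfl) (fun y hy => hb.nd y hy)
    (d := ⟨c, cL⟩) ec
    (fun y => Subtype.ext (by rw [Subgroup.coe_zpow]; exact hc y y.2)) ⊤ (by simp) trivial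
    (x := ⟨y, hy⟩) (by simpa [hH h hh] using hx)
    (nq.of_inj (Subgroup.subtype _) (fun _ => rfl) Subtype.val_injective fun g _ => ⟨⟨g, trivial⟩, rfl⟩)
  convert this using 1
  have a1 : ∀ y : L, (∑ h : H, if ε (h * y) = 1 then (1 : ℂ) else 0) =
      Nat.card H * if ε y = 1 then 1 else 0 := fun y => by simp [hH _ (SetLike.coe_mem _)]
  have a2 : ∀ y : L, (∑ h : H, if ε (h * y) = 1 ∧ Two ((h : Γ) * y) then S.Θ (h * y) else 0) =
      Nat.card H * if ε y = 1 ∧ Two y then S.Θ (c * y) else 0 := fun y => by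
    have t : Two y ↔ Two (y : Γ) := by simp [Two]
    simp only [map_mul, hH _ (SetLike.coe_mem _), one_mul, tw _ (SetLike.coe_mem _) _ y.2, t]
    split_ifs with e
    · exact key y y.2 e.1 e.2
    · simp
  rw [av, av, finsum_eq_sum_of_fintype, finsum_eq_sum_of_fintype, card_ker_eq, card_ker_eq,
    sum_HL hHL dj, sum_HL hHL dj]
  simp only [a1, a2]
  rw [← Finset.mul_sum, ← Finset.mul_sum, mul_inv, mul_mul_mul_comm,
    inv_mul_cancel₀ natCard_ne_zero, one_mul]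
  rfl

omit [Finite Γ] in
/-- `NQ` for `G × {±1}` and reality give indicator `1` -/
theorem fs_eq_one {G : Type*} [Group G] [Fintype G] (nq : NQ (MonoidHom.snd G ℤˣ))
    (hr : ∀ g : G, IsConj g g⁻¹) {χ : G → ℂ} (hχ : IsIrrCharacter G χ) :
    ∑ g, χ (g * g) = Nat.card G := by
  have a := hχ.classInner_self
  rw [classInner, Finset.sum_congr rfl fun g _ => by
    rw [← hχ.apply_inv, ← hχ.isClassFunction.eq_of_isConj (hr g)],
    inv_mul_eq_one₀ natCard_ne_zero] at a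
  rw [a]
  obtain ⟨n, ρ, hρ, rfl⟩ := hχ
  have key : ∀ i k u v, ∑ g, ρ g u i * ρ g v k = ∑ g, ρ g u k * ρ g v i := fun i k u v => by
    let β : (Fin n → ℂ) →ₗ[ℂ] (Fin n → ℂ) →ₗ[ℂ] ℂ := ∑ g, (LinearMap.mul ℂ ℂ).compl₁₂
      (LinearMap.proj i ∘ₗ ρ g) (LinearMap.proj k ∘ₗ ρ g) - ∑ g, (LinearMap.mul ℂ ℂ).compl₁₂
      (LinearMap.proj k ∘ₗ ρ g) (LinearMap.proj i ∘ₗ ρ g)
    have hβ : ∀ u v, β u v = ∑ g, ρ g u i * ρ g v k - ∑ g, ρ g u k * ρ g v i := fun u v => by
      simp [β, LinearMap.sum_apply]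
    have iv : ∀ h u v, β (ρ h u) (ρ h v) = β u v := fun h u v => by
      rw [hβ, hβ, ← Equiv.sum_comp (Equiv.mulRight h) fun g => ρ g u i * _,
        ← Equiv.sum_comp (Equiv.mulRight h) fun g => ρ g u k * _]
      simp
    have := nq _ ⟨fun x => ρ x.1, map_one ρ, fun _ _ => map_mul ρ _ _,
      fun x => β.compl₂ (ρ x.1), fun _ _ u v => by simp [iv], fun {x} _ u v => by
        simp only [LinearMap.compl₂_apply, Prod.fst_inv]
        rw [← iv x.1 v, ← End.mul_apply, ← map_mul, mul_inv_cancel, map_one, hβ, hβ, neg_sub]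
        simp only [mul_comm, End.one_apply]⟩ ⊤ ⟨fun _ _ _ _ => trivial, fun U _ h =>
      ((H4.isIrreducible_iff_submodule _).1 hρ).2 U fun g => h (g, 1) rfl⟩ (1, -1) rfl u trivial
      v trivial
    simpa [hβ, sub_eq_zero] using this
  simp only [Representation.character, LinearMap.trace_eq_matrix_trace ℂ (Pi.basisFun ℂ (Fin n)),
    map_mul, LinearMap.toMatrix_mul]
  simp only [Matrix.trace, Matrix.diag, Matrix.mul_apply,
    Finset.sum_mul_sum, LinearMap.toMatrix_apply, Pi.basisFun_repr]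
  rw [Finset.sum_comm, Finset.sum_comm (s := (Finset.univ : Finset G))]
  refine Finset.sum_congr rfl fun i _ => ?_
  rw [Finset.sum_comm, Finset.sum_comm (s := (Finset.univ : Finset G))]
  refine Finset.sum_congr rfl fun k _ => ?_
  rw [key]
  simp only [mul_comm]

end Cfsg.Agent.FS
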