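import Cfsg.Agent.FS.A

/-! The Dickson invariant via a trace formula; Gauss sums of `F₂`-valued quadratic forms. -/

set_option autoImplicit false

namespace Cfsg.Agent.FS

open Module

variable {K U : Type*} [Field K] [AddCommGroup U] [Module K U] [FiniteDimensional K U]

theorem trace_alt (h2 : (2 : K) = 0) (B : LinearMap.BilinForm K U) (sy : ∀ x y, B x y = B y x)
    (nd : B.Nondegenerate) {S T : End K U} (hS : ∀ x, B (S x) x = 0) (hT : ∀ x, B (T x) x = 0) :
    LinearMap.trace K U (S * T) = 0 := by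
  classical
  have sa : ∀ {S : End K U}, (∀ x, B (S x) x = 0) → ∀ x y, B (S x) y = B (S y) x := fun {S} h x y => by
    have := h (x + y)
    simp only [map_add, LinearMap.add_apply, h] at this
    linear_combination this - B (S y) x * h2
  let e := finBasis K U
  let f := B.dualBasis nd e
  have : ∀ i, (f.repr ((S * T) (f i))) i = ∑ j, B (S (e i)) (e j) * B (T (f i)) (f j) := fun i => by
    rw [LinearMap.BilinForm.dualBasis_repr_apply, End.mul_apply, sa hS, sy]
    conv_lhs => rw [← f.sum_repr (S (e i)), map_sum]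
    simp [f]
  rw [LinearMap.trace_eq_matrix_trace K f, Matrix.trace]
  simp only [Matrix.diag, LinearMap.toMatrix_apply, this]
  rw [← Finset.sum_product']
  exact Finset.sum_involution (fun p _ => p.swap) (fun p _ => by
    simp only [Prod.fst_swap, Prod.snd_swap, sa hS (e p.2), sa hT (f p.2)]
    linear_combination (B (S (e p.1)) (e p.2) * B (T (f p.1)) (f p.2)) * h2)
    (fun p _ n e' => n (by rw [show p.2 = p.1 from congrArg Prod.fst e', hS, zero_mul]))
    (by simp) (by simp)

open QuadraticMap in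
theorem dickson (h2 : (2 : K) = 0) (Q : QuadraticForm K U)
    (nd : ∀ x, (∀ y, polar Q x y = 0) → x = 0) : ∃ D : (End K U)ˣ → K,
      (∀ g h : (End K U)ˣ, (∀ y, Q (g.1 y) = Q y) → (∀ y, Q (h.1 y) = Q y) → D (g * h) = D g + D h) ∧
      ∀ (g : (End K U)ˣ) (u : U) (c : K), c * Q u = 1 → (∀ y, g.1 y = y + (c * polar Q u y) • u) →
        D g = 1 := by
  obtain ⟨β, rfl⟩ := LinearMap.BilinMap.toQuadraticMap_surjective Q
  let B : LinearMap.BilinForm K U := β.toQuadraticMap.polarBilin
  have hB : ∀ x y, polar β.toQuadraticMap x y = B x y := fun _ _ => rfl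
  have hβ : ∀ x y, B x y = β x y + β y x := fun x y => LinearMap.BilinMap.polar_toQuadraticMap x y
  have sy : ∀ x y, B x y = B y x := fun x y => by rw [hβ, hβ, add_comm]
  have nd' : B.Nondegenerate := ⟨nd, fun x h => nd x fun y => by rw [hB, sy, h]⟩
  let M : End K U := (B.toDual nd').symm.toLinearMap ∘ₗ β
  have hM : ∀ x y, B (M x) y = β x y := fun x y =>
    LinearMap.congr_fun ((B.toDual nd').apply_symm_apply (β x)) y
  have a2 : ∀ f : End K U, f + f = 0 := fun f => by rw [← two_smul K, h2, zero_smul]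
  have alt : ∀ g : (End K U)ˣ, (∀ y, β.toQuadraticMap (g.1 y) = β.toQuadraticMap y) →
      ∀ x, B ((g⁻¹.1 * M * g.1 + M) x) x = 0 := fun g h x => by
    have i : ∀ y z, B (g.1 y) (g.1 z) = B y z := fun y z => by
      rw [← hB, ← hB, polar, polar, ← map_add, h, h, h]
    have := h x
    simp only [LinearMap.BilinMap.toQuadraticMap_apply] at this
    rw [LinearMap.add_apply, map_add, LinearMap.add_apply, ← i, ← End.mul_apply, ← mul_assoc,
      ← mul_assoc, Units.mul_inv, one_mul, End.mul_apply, hM, hM, this]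
    linear_combination β x x * h2
  refine ⟨fun g => LinearMap.trace K U (M * (g⁻¹.1 * M * g.1 + M)), fun g h hg hh => ?_,
    fun g u c hc hg => ?_⟩
  · have := trace_alt h2 B sy nd' (alt h⁻¹ fun y => by
      rw [← hh, ← End.mul_apply, Units.mul_inv]; rfl) (alt g hg)
    have e : (g * h)⁻¹.1 * M * (g * h).1 + M =
        h⁻¹.1 * ((g⁻¹.1 * M * g.1 + M) * h.1) + (h⁻¹.1 * M * h.1 + M) := by
      rw [mul_inv_rev, add_mul, mul_add, add_assoc, ← add_assoc (_ * (M * _)), ← mul_assoc _ M, a2,
        zero_add]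
      simp only [Units.val_mul, mul_assoc]
    beta_reduce
    rw [e, mul_add, map_add, ← mul_assoc, ← mul_assoc, LinearMap.trace_mul_comm, add_left_inj]
    rw [inv_inv, add_mul, map_add] at this
    simp only [← mul_assoc]
    linear_combination this - LinearMap.trace K U (M * (g⁻¹.1 * M * g.1 + M)) * h2
  · let ζ : End K U := (c • B u).smulRight u
    have g1 : g.1 = 1 + ζ := LinearMap.ext fun y => by simp [hg, ζ, hB]
    have uu : B u u = 0 := by rw [hβ]; linear_combination β u u * h2
    have z2 : ζ * ζ = 0 := LinearMap.ext fun y => by simp [ζ, uu]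
    have g2 : g⁻¹.1 = 1 + ζ := Units.inv_eq_of_mul_eq_one_right (by
      rw [g1, add_mul, mul_add, mul_add, z2]; simp [add_assoc, a2])
    have hu : c * B u (M u) = 1 := by rw [sy, hM]; exact hc
    have z3 : ζ * M * ζ = ζ := LinearMap.ext fun y => by simp [ζ, smul_smul, hu]
    have : (1 + ζ) * M * (1 + ζ) + M = ζ * M + M * ζ + ζ := by
      rw [← add_left_inj M, add_assoc, a2]
      simp only [add_mul, mul_add, one_mul, mul_one, z3]; abel
    beta_reduce
    rw [g2, g1, this, mul_add, mul_add, map_add, map_add, LinearMap.trace_mul_comm, mul_assoc,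
      LinearMap.trace_mul_comm, mul_assoc, ← map_add, a2, map_zero, zero_add,
      LinearMap.trace_mul_comm, show ζ * M = ((c • B u) ∘ₗ M).smulRight u from rfl,
      LinearMap.trace_smulRight]
    exact hu

theorem gauss {V : Type*} [AddCommGroup V] [Finite V] (b : V →+ V →+ ZMod 2)
    (nd : ∀ x, (∀ y, b y x = 0) → x = 0) (q : V → ZMod 2) (h : ∀ x y, q (x + y) = q x + q y + b x y)
    (g : Equiv.Perm V) (z : V) (hz : ∀ y, q (g y) = q y + b y z) : q z = 0 := by
  classical
  have := Fintype.ofFinite V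
  let χ : ZMod 2 → ℤ := fun t => if t = 0 then 1 else -1
  have hχ : ∀ s t, χ (s + t) = χ s * χ t := by decide
  have q0 : q 0 = 0 := by have := h 0 0; simp only [add_zero, map_zero] at this; grind
  have s0 : ∀ u, u ≠ 0 → ∑ y, χ (b y u) = 0 := fun u hu => by
    obtain ⟨y, hy⟩ := not_forall.1 (mt (nd u) hu)
    have := Equiv.sum_comp (Equiv.addRight y) fun y => χ (b y u)
    simp only [Equiv.coe_addRight, map_add, AddMonoidHom.add_apply, hχ, ← Finset.sum_mul,
      show χ (b y u) = -1 from if_neg hy] at this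
    omega
  have s1 : (∑ y, χ (q y)) * ∑ y, χ (q y) = Fintype.card V := by
    rw [Finset.sum_mul, Finset.sum_congr rfl fun y _ => show _ = ∑ u, χ (q u) * χ (b y u) by
      rw [← Equiv.sum_comp (Equiv.addLeft y), Finset.mul_sum]
      refine Finset.sum_congr rfl fun u _ => ?_
      rw [Equiv.coe_addLeft, ← hχ, ← hχ, h]; congr 1; grind, Finset.sum_comm,
      Finset.sum_eq_single 0 (fun u _ hu => by rw [← Finset.mul_sum, s0 u hu, mul_zero]) (by simp)]
    simp [q0, χ]
  by_contra n
  have s2 := Equiv.sum_comp g fun y => χ (q y)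
  have s3 := Equiv.sum_comp (Equiv.addRight z) fun y => χ (q y)
  simp only [Equiv.coe_addRight, h, add_right_comm _ (q z), ← hz, hχ _ (q z), ← Finset.sum_mul, s2,
    show χ (q z) = -1 from if_neg n] at s3
  rw [show ∑ y, χ (q y) = 0 by omega, zero_mul] at s1
  exact Fintype.card_ne_zero (α := V) (by exact_mod_cast s1.symm)

end Cfsg.Agent.FS
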