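import Cfsg.Agent.FS.D

/-! Alternating `F₂`-forms with a commutative semisimple `*`-ring of operators, and their groups of
linear and `*`-semilinear isometries. -/

set_option autoImplicit false

namespace Cfsg.Agent.FS

open Equiv

theorem card_dual (B : Type*) [AddCommGroup B] [Finite B] (h : ∀ b : B, b + b = 0) :
    Nat.card (B →+ ZMod 2) = Nat.card B := by
  let _ : Module (ZMod 2) B := AddCommGroup.zmodModule fun b => by rw [two_nsmul, h]
  rw [Nat.card_congr (AddMonoidHom.toZModLinearMapEquiv 2).toEquiv,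
    Module.natCard_eq_pow_finrank (K := ZMod 2), Module.natCard_eq_pow_finrank (K := ZMod 2) (V := B)]
  exact congrArg _ Subspace.dual_finrank_eq

theorem rep {A B : Type*} [AddCommGroup A] [AddCommGroup B] [Finite A] [Finite B]
    (β : A →+ B →+ ZMod 2) (h1 : ∀ a, (∀ b, β a b = 0) → a = 0)
    (h2 : ∀ b, (∀ a, β a b = 0) → b = 0) (φ : B →+ ZMod 2) : ∃ a, ∀ b, β a b = φ b := by
  have i1 : Function.Injective β := (injective_iff_map_eq_zero _).2 fun a h =>
    h1 a fun b => by rw [h]; rfl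
  have i2 : Function.Injective β.flip := (injective_iff_map_eq_zero _).2 fun b h =>
    h2 b fun a => DFunLike.congr_fun h a
  have : Finite (A →+ ZMod 2) := .of_injective _ DFunLike.coe_injective
  have : Finite (B →+ ZMod 2) := .of_injective _ DFunLike.coe_injective
  obtain ⟨a, ha⟩ := (i1.bijective_of_nat_card_le (by
    rw [card_dual B fun b => h2 _ fun a => by rw [map_add]; grind,
      ← card_dual A fun a => h1 _ fun b => by rw [map_add, AddMonoidHom.add_apply]; grind]
    exact Nat.card_le_card_of_injective _ i2)).2 φ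
  exact ⟨a, fun b => by rw [ha]⟩

theorem sep {B : Type*} [AddCommGroup B] (h : ∀ b : B, b + b = 0) (A : AddSubgroup B) {x : B}
    (hx : x ∉ A) : ∃ φ : B →+ ZMod 2, φ x ≠ 0 ∧ ∀ a ∈ A, φ a = 0 := by
  let _ : Module (ZMod 2) B := AddCommGroup.zmodModule fun b => by rw [two_nsmul, h]
  obtain ⟨f, h1, h2⟩ := Submodule.exists_dual_map_eq_bot_of_notMem
    (p := AddSubgroup.toZModSubmodule 2 A) hx inferInstance
  exact ⟨f, h1, fun a ha => (Submodule.eq_bot_iff _).1 h2 _ ⟨a, ha, rfl⟩⟩

structure Geo (R V : Type*) [CommRing R] [StarRing R] [AddCommGroup V] [Module R V] where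
  b : V →+ V →+ ZMod 2
  symm : ∀ x y, b x y = b y x
  alt : ∀ x, b x x = 0
  nd : ∀ x, (∀ y, b x y = 0) → x = 0
  adj : ∀ (a : R) x y, b (a • x) y = b x (star a • y)
  red : ∀ a : R, ∃ n, 0 < n ∧ ∀ x : V, a ^ 2 ^ n • x = a • x
  gen : ∀ a : R, a ∈ Subring.closure {a : R | star a = a ∨ a * star a = 1}

variable {R V : Type*} [CommRing R] [StarRing R] [AddCommGroup V] [Module R V]

def st (s : ℤˣ) (a : R) : R := if s = 1 then a else star a

@[simp] theorem st_one (a : R) : st 1 a = a := if_pos rfl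

@[simp] theorem st_neg (a : R) : st (-1) a = star a := if_neg (by decide)

theorem st_mul (s t : ℤˣ) (a : R) : st (s * t) a = st s (st t a) := by
  rcases Int.units_eq_one_or s with rfl | rfl <;> rcases Int.units_eq_one_or t with rfl | rfl <;>
    simp

@[simp] theorem st_st (s : ℤˣ) (a : R) : st s (st s a) = a := by
  rw [← st_mul, Int.units_mul_self, st_one]

namespace Geo

variable (G : Geo R V)

structure Quad where
  q : V → ZMod 2
  κ : ZMod 2
  add : ∀ x y, q (x + y) = q x + q y + κ * G.b x y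
  h0 : κ = 0 → ∀ x, q x = 0

def q0 : G.Quad := ⟨0, 0, by simp, by simp⟩

theorem ext' {x y : V} (h : ∀ z, G.b x z = G.b y z) : x = y :=
  sub_eq_zero.1 (G.nd _ fun z => by simp [h z])

include G in
theorem two (x : V) : x + x = 0 := G.nd _ fun y => by rw [map_add, AddMonoidHom.add_apply]; grind

theorem adj' (a : R) (x y : V) : G.b x (a • y) = G.b (star a • x) y := by rw [G.adj, star_star]

theorem Quad.zero {G : Geo R V} (Q : G.Quad) : Q.q 0 = 0 := by
  have := Q.add 0 0; simp only [add_zero, map_zero] at this; grind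

include G in
theorem kill_star {a : R} (h : ∀ x : V, a • x = 0) (x : V) : star a • x = 0 :=
  G.nd _ fun y => by rw [← G.adj', h, map_zero]

include G in
theorem kill_sq {a : R} {x : V} (h : (a * a) • x = 0) : a • x = 0 := by
  obtain ⟨n, h0, hn⟩ := G.red a
  obtain ⟨m, e⟩ : ∃ m, 2 ^ n = m + 2 := ⟨2 ^ n - 2, (Nat.sub_add_cancel (Nat.le_self_pow h0.ne' 2)).symm⟩
  rw [← hn, e, pow_add, sq, mul_smul, h, smul_zero]

include G in
theorem exists_sqrt (a : R) : ∃ r : R, ∀ x : V, (r * r) • x = a • x := by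
  obtain ⟨n, h0, hn⟩ := G.red a
  exact ⟨a ^ 2 ^ (n - 1), fun x => by
    rw [← pow_add, ← two_mul, ← pow_succ', Nat.sub_add_cancel h0, hn]⟩

structure Mem (Q : G.Quad) (v : V) (x : Perm V × ℤˣ) : Prop where
  iso : ∀ y z, G.b (x.1 y) (x.1 z) = G.b y z
  lin : ∀ (a : R) y, x.1 (a • y) = st x.2 a • x.1 y
  q : ∀ y, Q.q (x.1 y) = Q.q y
  fix : x.1 v = v

def grp (Q : G.Quad) (v : V) : Subgroup (Perm V × ℤˣ) where
  carrier := {x | G.Mem Q v x}
  one_mem' := ⟨fun _ _ => rfl, by simp, fun _ => rfl, rfl⟩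
  mul_mem' {x y} hx hy := ⟨fun a b => (hx.iso _ _).trans (hy.iso a b),
    fun a z => by simp [hx.lin, hy.lin, st_mul], fun a => (hx.q _).trans (hy.q a),
    by simp [hx.fix, hy.fix]⟩
  inv_mem' {x} hx := ⟨fun a b => by rw [← hx.iso]; simp,
    fun a z => x.1.injective (by simp [hx.lin]), fun a => by rw [← hx.q]; simp,
    x.1.injective (by simp [hx.fix])⟩

abbrev sgn (Q : G.Quad) (v : V) : G.grp Q v →* ℤˣ := (MonoidHom.snd _ _).comp (G.grp Q v).subtype

theorem add_of_iso (g : Perm V) (h : ∀ y z, G.b (g y) (g z) = G.b y z) (y z : V) :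
    g (y + z) = g y + g z := G.ext' fun w => by
  obtain ⟨w, rfl⟩ := g.surjective w
  simp [h]

variable {G} {Q : G.Quad} {v : V} {x : Perm V × ℤˣ}

theorem Mem.add (h : G.Mem Q v x) (y z : V) : x.1 (y + z) = x.1 y + x.1 z := G.add_of_iso _ h.iso y z

theorem Mem.zero (h : G.Mem Q v x) : x.1 0 = 0 := by simpa using h.add 0 0

theorem Mem.lin1 (h : G.Mem Q v x) (e : x.2 = 1) (a : R) (y : V) : x.1 (a • y) = a • x.1 y := by
  rw [h.lin, e, st_one]

variable (G)

def perp (W : Submodule R V) : Submodule R V where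
  carrier := {y | ∀ w ∈ W, G.b w y = 0}
  zero_mem' := by simp
  add_mem' h1 h2 w hw := by simp [h1 w hw, h2 w hw]
  smul_mem' a y h w hw := by rw [G.adj', h _ (W.smul_mem _ hw)]

def ND (W : Submodule R V) : Prop := ∀ w ∈ W, w ∈ G.perp W → w = 0

def res (W : Submodule R V) (h : G.ND W) : Geo R W where
  b := (G.b.comp W.subtype.toAddMonoidHom).compl₂ W.subtype.toAddMonoidHom
  symm x y := G.symm x y
  alt x := G.alt x
  nd x hx := Subtype.ext (h x x.2 fun w hw => (G.symm _ _).trans (hx ⟨w, hw⟩))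
  adj a x y := G.adj a x y
  red a := (G.red a).imp fun _ h => ⟨h.1, fun x => Subtype.ext (h.2 x)⟩
  gen := G.gen

@[simp] theorem res_b {W : Submodule R V} (h : G.ND W) (x y : W) : (G.res W h).b x y = G.b x y := rfl

def Quad.res {G : Geo R V} (Q : G.Quad) (W : Submodule R V) (h : G.ND W) : (G.res W h).Quad :=
  ⟨fun x => Q.q x, Q.κ, fun x y => Q.add x y, fun e x => Q.h0 e x⟩

variable [Finite V]

theorem exists_rep (φ : V →+ ZMod 2) : ∃ z, ∀ y, G.b z y = φ y :=
  rep G.b G.nd (fun b h => G.nd b fun a => by rw [G.symm, h]) φ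

variable {G}

theorem ND.isCompl {W : Submodule R V} (h : G.ND W) : IsCompl (G.perp W) W :=
  ⟨Submodule.disjoint_def.2 fun w h1 h2 => h w h2 h1, codisjoint_iff_le_sup.2 fun y _ => by
    obtain ⟨z, hz⟩ := (G.res W h).exists_rep ((G.b y).comp W.subtype.toAddMonoidHom)
    exact Submodule.mem_sup.2 ⟨y - z, fun w hw => by
      have : G.b z w = G.b y w := hz ⟨w, hw⟩
      rw [G.symm]; simp [this], z, z.2, by simp⟩⟩

theorem ND.perp {W : Submodule R V} (h : G.ND W) : G.ND (G.perp W) := fun w h1 h2 =>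
  G.nd w fun y => by
    obtain ⟨a, ha, c, hc, rfl⟩ := Submodule.mem_sup.1 (h.isCompl.sup_eq_top ▸ Submodule.mem_top (x := y))
    rw [G.symm]; simp [h1 c hc, h2 a ha]

omit [Finite V] in
theorem glue {W T : Submodule R V} (c : IsCompl W T) (o : ∀ w ∈ W, ∀ t ∈ T, G.b t w = 0)
    (g₁ : Perm W) (g₂ : Perm T) (i1 : ∀ y z, G.b (g₁ y) (g₁ z) = G.b y z)
    (i2 : ∀ y z, G.b (g₂ y) (g₂ z) = G.b y z) (l1 : ∀ (a : R) y, g₁ (a • y) = a • g₁ y)
    (l2 : ∀ (a : R) y, g₂ (a • y) = a • g₂ y) : ∃ g : Perm V, G.Mem G.q0 0 (g, 1) ∧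
      (∀ w : W, g w = g₁ w) ∧ ∀ t : T, g t = g₂ t := by
  let e := Submodule.prodEquivOfIsCompl W T c
  let g : Perm V := e.toEquiv.permCongr (g₁.prodCongr g₂)
  have hg : ∀ (w : W) (t : T), g (w + t) = g₁ w + g₂ t := fun w t => by
    have : (w : V) + t = e (w, t) := rfl
    rw [this]; simp [g]; rfl
  have z1 : g₁ 0 = 0 := by simpa using l1 0 0
  have z2 : g₂ 0 = 0 := by simpa using l2 0 0
  have d : ∀ y : V, ∃ (w : W) (t : T), y = w + t := fun y => ⟨_, _, (e.apply_symm_apply y).symm⟩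
  refine ⟨g, ⟨fun y z => ?_, fun a y => ?_, fun _ => rfl, by simpa [z1, z2] using hg 0 0⟩,
    fun w => by simpa [z2] using hg w 0, fun t => by simpa [z1] using hg 0 t⟩
  · obtain ⟨w, t, rfl⟩ := d y
    obtain ⟨w', t', rfl⟩ := d z
    have o' : ∀ (w : W) (t : T), G.b t w = 0 ∧ G.b w t = 0 := fun w t =>
      ⟨o w w.2 t t.2, (G.symm _ _).trans (o w w.2 t t.2)⟩
    simp [hg, i1, i2, o']
  · obtain ⟨w, t, rfl⟩ := d y
    have := hg (a • w) (a • t)
    simp only [l1, l2, Submodule.coe_smul] at this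
    simp [hg, this]

end Geo

/-- the induced action on a complement -/
def actH {Δ : Type*} [Group Δ] (f : Δ →* Perm V × ℤˣ) {W : Submodule R V} (p : V → W)
    (hp : ∀ w : W, p w = w)
    (h : ∀ x y (w : W), p ((f x).1 ((f y).1 w)) = p ((f x).1 (p ((f y).1 w)))) :
    Δ →* Perm W × ℤˣ :=
  (MonoidHom.toHomPerm (G := Δ) (α := W) ⟨⟨fun x w => p ((f x).1 w), funext fun w => by
    rw [map_one]; exact hp w⟩,
    fun x y => funext fun w =>
    (congrArg (fun z : Perm V × ℤˣ => p (z.1 w)) (map_mul f x y)).trans (h x y w)⟩).prod ((MonoidHom.snd _ _).comp f)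

namespace Geo

variable (G : Geo R V) [Finite V]

theorem exists_adj (f : Module.End ℤ V) :
    ∃ f' : Module.End ℤ V, ∀ x y, G.b (f' x) y = G.b x (f y) := by
  choose g hg using fun x => G.exists_rep ((G.b x).comp f.toAddMonoidHom)
  exact ⟨(AddMonoidHom.mk' g fun x y => G.ext' fun z => by simp [hg]).toIntLinearMap, hg⟩

noncomputable def ad (f : Module.End ℤ V) : Module.End ℤ V := (G.exists_adj f).choose

theorem ad_spec (f : Module.End ℤ V) (x y : V) : G.b (G.ad f x) y = G.b x (f y) :=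
  (G.exists_adj f).choose_spec x y

theorem ad_eq {f g : Module.End ℤ V} (h : ∀ x y, G.b (g x) y = G.b x (f y)) : G.ad f = g :=
  LinearMap.ext fun x => G.ext' fun y => by rw [ad_spec, h]

theorem ad_ad (f : Module.End ℤ V) : G.ad (G.ad f) = f :=
  G.ad_eq fun x y => by rw [G.symm x, ad_spec, G.symm]

theorem ad_mul (f g : Module.End ℤ V) : G.ad (f * g) = G.ad g * G.ad f :=
  G.ad_eq fun x y => by simp [ad_spec]

theorem ad_add (f g : Module.End ℤ V) : G.ad (f + g) = G.ad f + G.ad g :=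
  G.ad_eq fun x y => by simp [ad_spec]

end Geo

theorem pow_pow_fix {M : Type*} [Monoid M] {a : M} {n : ℕ} (h : a ^ 2 ^ n = a) (k : ℕ) :
    a ^ 2 ^ (n * k) = a := by
  induction k with
  | zero => simp
  | succ k ih => rw [mul_add, mul_one, pow_add, pow_mul, ih, h]

/-- the condition under which a quadratic form and a vector are allowed together -/
def Geo.OK {G : Geo R V} (Q : G.Quad) (v : V) : Prop := Q.κ = 1 → ∀ a : R, star a • v = a • v

namespace Geo

open scoped IsMulCommutative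

universe u

/-- adjoining an isometry of odd order to the ring of operators -/
theorem extend {V : Type u} [AddCommGroup V] [Module R V] [Finite V] (G : Geo R V) (Q : G.Quad)
    (v : V) (d : G.grp Q v) (e : G.sgn Q v d = 1) (ho : Odd (orderOf d)) :
    ∃ (R' : Type u) (_ : CommRing R') (_ : StarRing R') (_ : Module R' V) (G' : Geo R' V)
      (Q' : G'.Quad), (∀ x, x ∈ G'.grp Q' v ↔ ∃ h : x ∈ G.grp Q v, ⟨x, h⟩ ∈ Ne (G.sgn Q v) d) ∧
      (OK Q v → OK Q' v) := by
  let φ : G.grp Q v →* Module.End ℤ V := ⟨⟨fun x => (AddMonoidHom.mk' x.1.1 x.2.add).toIntLinearMap,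
    rfl⟩, fun _ _ => rfl⟩
  have hφ : ∀ x y, φ x y = x.1.1 y := fun _ _ => rfl
  let ι : R →+* Module.End ℤ V := Module.toModuleEnd ℤ V
  have hι : ∀ a y, ι a y = a • y := fun _ _ => rfl
  let s : Set (Module.End ℤ V) := Set.range ι ∪ {φ d, φ d⁻¹}
  have c1 : ∀ a, ∀ x : G.grp Q v, G.sgn Q v x = 1 → ι a * φ x = φ x * ι a := fun a x h =>
    LinearMap.ext fun y => (x.2.lin1 h a y).symm
  have e' : G.sgn Q v d⁻¹ = 1 := by rw [map_inv, e, inv_one]
  have : IsMulCommutative (Subring.closure s) := Subring.isMulCommutative_closure (by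
    rintro _ (⟨a, rfl⟩ | rfl | rfl) _ (⟨a', rfl⟩ | rfl | rfl) <;>
      simp only [← map_mul ι, ← map_mul φ, c1 _ _ e, c1 _ _ e', mul_comm, mul_inv_cancel,
        inv_mul_cancel])
  have a1 : ∀ a, G.ad (ι a) = ι (star a) := fun a => G.ad_eq fun x y => (G.adj' a x y).symm
  have a2 : ∀ x, G.ad (φ x) = φ x⁻¹ := fun x => G.ad_eq fun y z => by
    rw [← x.2.iso, ← hφ, ← hφ, ← Module.End.mul_apply, ← map_mul]; simp
  have am : ∀ f ∈ Subring.closure s, G.ad f ∈ Subring.closure s := fun f hf => by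
    induction hf using Subring.closure_induction with
    | mem f hf =>
      refine Subring.subset_closure ?_
      rcases hf with ⟨a, rfl⟩ | rfl | rfl <;> simp [s, a1, a2]
    | zero => rw [← map_zero ι, a1]; simpa using zero_mem _
    | one => rw [← map_one ι, a1]; simpa using one_mem _
    | add f g _ _ h1 h2 => rw [ad_add]; exact add_mem h1 h2
    | neg f _ h => rw [G.ad_eq (g := -G.ad f) fun x y => by simp [ad_spec]]; exact neg_mem h
    | mul f g _ _ h1 h2 => rw [ad_mul]; exact mul_mem h2 h1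
  let _ : StarRing (Subring.closure s) :=
    { star f := ⟨G.ad f, am f f.2⟩
      star_involutive f := Subtype.ext (G.ad_ad f)
      star_mul f g := Subtype.ext (G.ad_mul f g)
      star_add f g := Subtype.ext (G.ad_add f g) }
  have hs : ∀ f : Subring.closure s, ((star f : Subring.closure s) : Module.End ℤ V) = G.ad f :=
    fun _ => rfl
  have sm : ∀ (f : Subring.closure s) (y : V), f • y = (f : Module.End ℤ V) y := fun _ _ => rfl
  have ind : ∀ P : Subring.closure s → Prop, (∀ a h, P ⟨ι a, h⟩) → (∀ h, P ⟨φ d, h⟩) →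
      (∀ h, P ⟨φ d⁻¹, h⟩) → (∀ f g, P f → P g → P (f + g)) → (∀ f g, P f → P g → P (f * g)) →
      ∀ f, P f := fun P h1 h2 h3 h4 h5 ⟨f, hf⟩ => by
    induction hf using Subring.closure_induction with
    | mem f hf => rcases hf with ⟨a, rfl⟩ | rfl | rfl <;> apply_assumption
    | zero => simpa using h1 0 (by simp)
    | one => simpa using h1 1 (by simp)
    | add f g _ _ a b => exact h4 _ _ a b
    | neg f hf a =>
      have := h5 _ _ (h1 (-1) (by simp)) a
      simpa using this
    | mul f g _ _ a b => exact h5 _ _ a b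
  have t2 : ∀ f : Subring.closure s, f + f = 0 := fun f =>
    Subtype.ext (LinearMap.ext fun y => G.two _)
  let G' : Geo (Subring.closure s) V :=
    { G with
      adj f x y := by rw [sm, sm, hs, G.symm x, ad_spec, G.symm]
      red f := by
        suffices ∃ n, 0 < n ∧ f ^ 2 ^ n = f from this.imp fun n h => ⟨h.1, fun x => by rw [h.2]⟩
        have od : ∀ x : G.grp Q v, Odd (orderOf x) → ∀ h, ∃ n, 0 < n ∧
            (⟨φ x, h⟩ : Subring.closure s) ^ 2 ^ n = ⟨φ x, h⟩ := fun x hx h =>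
          ⟨_, Nat.totient_pos.2 hx.pos, Subtype.ext (by
            rw [SubmonoidClass.coe_pow, ← map_pow, pow_eq_pow_iff_modEq.2
              (Nat.ModEq.pow_totient hx.coprime_two_left), pow_one])⟩
        have fr : ∀ (f g : Subring.closure s) n, (f + g) ^ 2 ^ n = f ^ 2 ^ n + g ^ 2 ^ n :=
          fun f g n => by
            induction n with
            | zero => simp
            | succ n ih =>
              rw [pow_succ, pow_mul, pow_mul, pow_mul, ih]
              linear_combination t2 (f ^ 2 ^ n * g ^ 2 ^ n)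
        refine ind (fun f => ∃ n, 0 < n ∧ f ^ 2 ^ n = f) (fun a h => (G.red a).imp fun n hn => ⟨hn.1, Subtype.ext (LinearMap.ext
          fun y => by rw [SubmonoidClass.coe_pow, ← map_pow]; exact hn.2 y)⟩) (od d ho)
          (od d⁻¹ (by simpa using ho)) ?_ ?_ f
        · rintro f g ⟨n, h, hn⟩ ⟨m, h', hm⟩
          exact ⟨n * m, mul_pos h h', by rw [fr, pow_pow_fix hn, mul_comm, pow_pow_fix hm]⟩
        · rintro f g ⟨n, h, hn⟩ ⟨m, h', hm⟩
          exact ⟨n * m, mul_pos h h', by rw [mul_pow, pow_pow_fix hn, mul_comm n, pow_pow_fix hm]⟩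
      gen f := by
        have un : ∀ (x : G.grp Q v) h, (⟨φ x, h⟩ : Subring.closure s) ∈ Subring.closure
            {a : Subring.closure s | star a = a ∨ a * star a = 1} := fun x h =>
          Subring.subset_closure (Or.inr (Subtype.ext (by simp [hs, a2, ← map_mul])))
        refine ind _ (fun a h => ?_) (un d) (un d⁻¹) (fun _ _ => add_mem) (fun _ _ => mul_mem) f
        refine Subring.mem_comap.1 ((Subring.closure_le.2 ?_ : _ ≤ Subring.comap (ι.codRestrict
          (Subring.closure s) fun a => Subring.subset_closure (Or.inl ⟨a, rfl⟩)) _) (G.gen a))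
        exact fun a ha => Subring.subset_closure (ha.imp
          (fun h => Subtype.ext (by simp [hs, a1, h]))
          fun h => Subtype.ext (by simp [hs, a1, ← map_mul, h])) }
  refine ⟨_, inferInstance, inferInstance, inferInstance, G', ⟨Q.q, Q.κ, Q.add, Q.h0⟩,
    fun x => ⟨fun h => ?_, fun ⟨h, h'⟩ => ⟨h.iso, ?_, h.q, h.fix⟩⟩, fun h k => ?_⟩
  · have l := h.lin
    refine ⟨⟨h.iso, fun a y => ?_, h.q, h.fix⟩, ?_⟩
    · have := l ⟨ι a, Subring.subset_closure (Or.inl ⟨a, rfl⟩)⟩ y
      rcases Int.units_eq_one_or x.2 with k | k <;> simpa [k, sm, hs, a1, hι] using this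
    · have := l ⟨φ d, Subring.subset_closure (Or.inr (Or.inl rfl))⟩
      refine mul_inv_eq_iff_eq_mul.2 (Subtype.ext (Prod.ext (Perm.ext fun y => ?_) ?_))
      · rcases Int.units_eq_one_or x.2 with k | k <;> simpa [k, sm, hs, a2, hφ] using this y
      · have : d.1.2 = 1 := e
        simp [this]
  · have h1 := fun y => congrArg (fun z : G.grp Q v => z.1.1 y) (mul_inv_eq_iff_eq_mul.1 h')
    have h2 := fun y => congrArg (fun z : G.grp Q v => z.1.1 y) (mul_inv_eq_iff_eq_mul.1
      ((conj_inv.symm.trans (congrArg (·⁻¹) h')).trans (inv_zpow d _).symm))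
    refine ind (fun f => ∀ y, x.1 (f • y) = st x.2 f • x.1 y) (fun a _ y => ?_) (fun _ y => ?_)
      (fun _ y => ?_) (fun f g a b y => ?_) fun f g a b y => ?_
    · rcases Int.units_eq_one_or x.2 with k | k <;> simpa [k, sm, hs, a1, hι] using h.lin a y
    · rcases Int.units_eq_one_or x.2 with k | k <;> simpa [k, sm, hs, a2, hφ] using h1 y
    · rcases Int.units_eq_one_or x.2 with k | k <;> simpa [k, sm, hs, a2, hφ] using h2 y
    · rw [add_smul, h.add, a, b, ← add_smul]
      rcases Int.units_eq_one_or x.2 with k | k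
      · rw [k, st_one, st_one, st_one]
      · rw [k, st_neg, st_neg, st_neg, star_add]
    · rw [mul_smul, a, b, ← mul_smul]
      rcases Int.units_eq_one_or x.2 with k | k
      · rw [k, st_one, st_one, st_one]
      · rw [k, st_neg, st_neg, st_neg, star_mul']
  · refine ind (fun f => star f • v = f • v) (fun a _ => by simpa [sm, hs, a1, hι] using h k a)
      (fun _ => by rw [sm, sm, hs, a2, hφ, hφ, d.2.fix, (d⁻¹).2.fix])
      (fun _ => by rw [sm, sm, hs, a2, hφ, hφ, inv_inv, d.2.fix, (d⁻¹).2.fix])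
      (fun f g a b => by rw [star_add, add_smul, a, b, add_smul])
      fun f g a b => by rw [star_mul, mul_smul, a, smul_comm, b, mul_smul]

end Geo

end Cfsg.Agent.FS
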