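import Cfsg.Agent.FS.G1

/-! The stabiliser of an isotropic vector: Eichler transformations. -/

set_option autoImplicit false

namespace Cfsg.Agent.FS

open Equiv

variable {R V : Type*} [CommRing R] [StarRing R] [AddCommGroup V] [Module R V]

namespace Geo

/-- an isotropic vector `v` generating a free module, with a dual vector -/
structure Iso (G : Geo R V) (v : V) where
  v' : V
  iso : ∀ a : R, G.b (a • v) v = 0
  fr : ∀ a : R, (∀ s : R, G.b ((s * a) • v) v' = 0) → ∀ x : V, a • x = 0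
  inv : ∀ a : R, G.b (star a • v) v' = G.b (a • v) v'

namespace Iso

variable {G : Geo R V} {v : V} (I : G.Iso v)

def τ (a : R) : ZMod 2 := G.b (a • v) I.v'

def P (_ : G.Iso v) (y : V) : Prop := ∀ a : R, G.b (a • v) y = 0

def T : Submodule R V := (R ∙ v) ⊔ R ∙ I.v'

abbrev W : Submodule R V := G.perp I.T

theorem τ_add (a c : R) : I.τ (a + c) = I.τ a + I.τ c := by simp [τ, add_smul]

theorem τ_star (a : R) : I.τ (star a) = I.τ a := I.inv a

theorem τ_congr {a c : R} (h : ∀ x : V, a • x = c • x) : I.τ a = I.τ c := by rw [τ, h, τ]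

theorem eq_of_τ {a c : R} (h : ∀ s, I.τ (s * a) = I.τ (s * c)) (x : V) : a • x = c • x := by
  rw [← sub_eq_zero, ← sub_smul]
  exact I.fr _ (fun s => by simpa [τ, mul_sub, sub_smul, sub_eq_zero] using h s) x

theorem bvv' (a c : R) : G.b (a • v) (c • I.v') = I.τ (star c * a) := by rw [G.adj', ← mul_smul, τ]

theorem bv'v (a c : R) : G.b (c • I.v') (a • v) = I.τ (star c * a) := by rw [G.symm, bvv']

theorem mem_T {y : V} : y ∈ I.T ↔ ∃ a c : R, a • v + c • I.v' = y := by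
  simp [T, Submodule.mem_sup, Submodule.mem_span_singleton]

theorem mem_W {y : V} : y ∈ I.W ↔ I.P y ∧ ∀ a : R, G.b (a • I.v') y = 0 :=
  ⟨fun h => ⟨fun a => h _ (I.mem_T.2 ⟨a, 0, by simp⟩), fun a => h _ (I.mem_T.2 ⟨0, a, by simp⟩)⟩,
    fun h w hw => by obtain ⟨a, c, rfl⟩ := I.mem_T.1 hw; simp [h.1 a, h.2 c]⟩

theorem P_smul {y : V} (h : I.P y) (a : R) : I.P (a • y) := fun c => by rw [G.adj', ← mul_smul, h]

theorem P_add {y z : V} (h : I.P y) (h' : I.P z) : I.P (y + z) := fun c => by simp [h c, h' c]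

theorem P_v (a : R) : I.P (a • v) := I.P_smul I.iso a

theorem P_W (w : I.W) : I.P w := (I.mem_W.1 w.2).1

theorem P.b {I : G.Iso v} {y : V} (h : I.P y) (a : R) : G.b y (a • v) = 0 := by rw [G.symm, h]

theorem bW' (w : I.W) (a : R) : G.b (a • I.v') w = 0 := (I.mem_W.1 w.2).2 a

theorem bW (w : I.W) (a : R) : G.b w (a • I.v') = 0 := by rw [G.symm, bW']

theorem kill_of_P {c : R} (h : I.P (c • I.v')) (x : V) : c • x = 0 := by
  simpa using G.kill_star (I.fr (star c) fun s => by rw [mul_comm]; exact (I.bvv' s c).symm.trans (h s)) x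

theorem nd : G.ND I.T := fun w hw h => by
  obtain ⟨a, c, rfl⟩ := I.mem_T.1 hw
  obtain ⟨h1, h2⟩ := I.mem_W.1 h
  have := I.kill_of_P (c := c) fun s => by simpa [I.P_v a s] using h1 s
  rw [this, add_zero] at h2 ⊢
  exact I.fr a (fun s => by simpa [bv'v, τ] using h2 (star s)) v

variable [Finite V]

theorem dec (y : V) : ∃ (a c : R) (w : I.W), y = a • v + c • I.v' + w := by
  obtain ⟨w, hw, t, ht, rfl⟩ :=
    Submodule.mem_sup.1 (I.nd.isCompl.sup_eq_top ▸ Submodule.mem_top (x := y))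
  obtain ⟨a, c, rfl⟩ := I.mem_T.1 ht
  exact ⟨a, c, ⟨w, hw⟩, add_comm _ _⟩

theorem P.dec {I : G.Iso v} {y : V} (h : I.P y) : ∃ (a : R) (w : I.W), y = w + a • v := by
  obtain ⟨a, c, w, rfl⟩ := I.dec y
  exact ⟨a, w, by rw [I.kill_of_P (c := c) fun s => by simpa [I.P_v a s, I.P_W w s] using h s]; abel⟩

theorem dec' (y : V) : ∃ (u : V) (c : R), I.P u ∧ y = u + c • I.v' := by
  obtain ⟨a, c, w, rfl⟩ := I.dec y
  exact ⟨a • v + w, c, I.P_add (I.P_v a) (I.P_W w), by abel⟩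

theorem of_perp {z : V} (h : ∀ y, I.P y → G.b y z = 0) : ∃ a : R, z = a • v := by
  obtain ⟨a, w, rfl⟩ := P.dec (I := I) (y := z) fun s => h _ (I.P_v s)
  refine ⟨a, ?_⟩
  rw [(G.res _ I.nd.perp).nd w fun y => by
    simpa [(I.P_W y).b, G.symm y, I.P_W y a] using h _ (I.P_W y)]
  simp

noncomputable def β (y : V) : R := (I.dec' y).choose_spec.choose

theorem β_eq {u : V} (h : I.P u) (c : R) (x : V) : I.β (u + c • I.v') • x = c • x := by
  obtain ⟨h1, h2⟩ := (I.dec' (u + c • I.v')).choose_spec.choose_spec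
  rw [← sub_eq_zero, ← sub_smul]
  refine I.kill_of_P (fun s => ?_) x
  have := congrArg (G.b (s • v)) h2
  simp only [map_add, h s, h1 s, zero_add] at this
  rw [sub_smul, map_sub, this, β, sub_self]

/-- the map `u + c v' ↦ c z` -/
noncomputable def φ (z : V) : V →ₗ[R] V where
  toFun y := I.β y • z
  map_add' y y' := by
    obtain ⟨u, c, h, rfl⟩ := I.dec' y
    obtain ⟨u', c', h', rfl⟩ := I.dec' y'
    rw [add_add_add_comm, ← add_smul, I.β_eq (I.P_add h h'), I.β_eq h, I.β_eq h', add_smul]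
  map_smul' a y := by
    obtain ⟨u, c, h, rfl⟩ := I.dec' y
    rw [smul_add, ← mul_smul, I.β_eq (I.P_smul h a), I.β_eq h, mul_smul]; rfl

theorem φ_eq (z : V) {u : V} (h : I.P u) (c : R) : I.φ z (u + c • I.v') = c • z := I.β_eq h c z

theorem P_zero : I.P 0 := fun _ => map_zero _

theorem frob (f : R →+ ZMod 2) (h : ∀ a, (∀ x : V, a • x = 0) → f a = 0) :
    ∃ e, ∀ s, f s = I.τ (s * e) := by
  have k : ∀ {a c : R}, (∀ x : V, a • x = c • x) → f a = f c := fun {a c} e =>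
    sub_eq_zero.1 (by rw [← map_sub]; exact h _ fun x => by rw [sub_smul, e, sub_self])
  obtain ⟨z, hz⟩ := G.exists_rep (AddMonoidHom.mk' (fun y => f (I.β y)) fun y y' => by
    rw [← map_add]
    exact k fun x => by rw [add_smul]; exact (I.φ x).map_add y y')
  obtain ⟨a, rfl⟩ := I.of_perp (z := z) fun y hy => by
    rw [G.symm, hz]
    exact h _ fun x => by simpa using I.β_eq hy 0 x
  refine ⟨star a, fun s => ?_⟩
  have := hz (0 + s • I.v')
  rw [AddMonoidHom.mk'_apply, k (I.β_eq I.P_zero s), zero_add, bvv'] at this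
  rw [← this, ← τ_star, star_mul', star_star]

/-- Eichler transformations -/
theorem eich (w : I.W) (c : R) (h : ∀ s : R, G.b (s • (I.v' + w + c • v)) (I.v' + w + c • v) =
    G.b (s • I.v') I.v') : ∃ g : Perm V, G.Mem G.q0 v (g, 1) ∧ g I.v' = I.v' + w + c • v ∧
      ∀ y, I.P y → ∃ a : R, g y = y + a • v := by
  let δ := G.ad ((I.φ w).toAddMonoidHom.toIntLinearMap)
  have d1 : ∀ x y, G.b (δ x) y = G.b x (I.φ w y) := G.ad_spec _
  have d2 : ∀ x, ∃ a : R, δ x = a • v := fun x => I.of_perp fun y hy => by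
    rw [G.symm, d1]; simpa using congrArg (G.b x) (I.φ_eq w hy 0)
  have d3 : ∀ s : R, δ (s • I.v') = 0 := fun s => G.nd _ fun y => by
    rw [d1]; exact I.bW' (I.β y • w) s
  have d4 : ∀ (s : R) x, δ (s • x) = s • δ x := fun s x => G.ext' fun y => by
    rw [d1, G.adj, G.adj, d1, LinearMap.map_smul]
  let f : V → V := fun y => y + I.φ (w + c • v) y + δ y
  have hf : ∀ u, I.P u → ∀ s : R, f (u + s • I.v') = u + δ u + s • (I.v' + w + c • v) :=
    fun u hu s => by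
      simp only [f, I.φ_eq _ hu, map_add δ, d3, smul_add]; abel
  have fa : ∀ y z, f (y + z) = f y + f z := fun y z => by simp only [f, map_add]; abel
  have key : ∀ u, I.P u → ∀ s : R, G.b (u + δ u) (s • (I.v' + w + c • v)) = G.b u (s • I.v') :=
    fun u hu s => by
      have := d1 u (0 + s • I.v')
      rw [I.φ_eq _ I.P_zero, zero_add] at this
      obtain ⟨a, ha⟩ := d2 u
      have h1 := hu.b (s * c)
      have h2 := I.P_v (s * c) a
      have h3 := I.P_W (s • w) a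
      simp only [smul_add, map_add, AddMonoidHom.add_apply, ha, ← mul_smul,
        Submodule.coe_smul] at *
      grind
  have fi : ∀ y z, G.b (f y) (f z) = G.b y z := fun y z => by
    obtain ⟨u, s, hu, rfl⟩ := I.dec' y
    obtain ⟨u', s', hu', rfl⟩ := I.dec' z
    have k1 := key u hu s'
    have k2 := key u' hu' s
    have k3 := h (star s' * s)
    rw [mul_smul, mul_smul, ← G.adj', ← G.adj'] at k3
    rw [G.symm] at k2
    obtain ⟨a, ha⟩ := d2 u
    obtain ⟨a', ha'⟩ := d2 u'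
    have k4 : G.b (u + δ u) (u' + δ u') = G.b u u' := by
      simp only [ha, ha', map_add, AddMonoidHom.add_apply, hu.b, hu' a, I.P_v a' a, add_zero]
    rw [hf u hu, hf u' hu']
    generalize u + δ u = A at *
    generalize u' + δ u' = A' at *
    simp only [map_add, AddMonoidHom.add_apply, k1, k2, k3, k4, G.symm u']
  have f0 : ∀ u, I.P u → f u = u + δ u := fun u hu => by simpa using hf u hu 0
  refine ⟨Equiv.ofBijective f (Finite.injective_iff_bijective.1 fun y z e => G.ext' fun t => by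
    rw [← fi, e, fi]), ⟨fi, fun a y => by simp [f, d4], fun _ => rfl, ?_⟩,
    by simpa using hf 0 I.P_zero 1, fun y hy => (d2 y).imp fun a ha => ha ▸ f0 y hy⟩
  have : δ v = 0 := G.nd _ fun y => by rw [d1]; simpa [φ] using I.P_W (I.β y • w) 1
  simpa [this] using f0 v I.iso

variable {Q : G.Quad} {x : Perm V × ℤˣ}

omit [Finite V] in
theorem map_v (h : G.Mem Q v x) (a : R) : x.1 (a • v) = st x.2 a • v := by rw [h.lin, h.fix]

omit [Finite V] in
theorem map_P (h : G.Mem Q v x) {y : V} (hy : I.P y) : I.P (x.1 y) := fun a => by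
  rw [← st_st x.2 a, ← map_v h, h.iso, hy]

theorem map_v' (h : G.Mem Q v x) : ∃ (w : I.W) (c : R), x.1 I.v' = I.v' + w + c • v := by
  obtain ⟨a, w, e⟩ := P.dec (I := I) (y := x.1 I.v' + I.v') fun s => by
    rw [map_add, ← st_st x.2 s, ← map_v h, h.iso, map_v h, st_st]
    have := I.inv s
    rcases Int.units_eq_one_or x.2 with k | k <;> simp only [k, st_one, st_neg] <;> grind
  exact ⟨w, a, by rw [add_assoc, ← e, add_comm (x.1 _), ← add_assoc, G.two, zero_add]⟩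

/-- projection onto the complement -/
noncomputable def p : V →ₗ[R] I.W := I.W.projectionOnto I.T I.nd.isCompl

@[simp] theorem p_W (w : I.W) : I.p w = w := Submodule.projectionOnto_apply_left _ _

@[simp] theorem p_v : I.p v = 0 :=
  (Submodule.projectionOnto_apply_eq_zero_iff _).2 (I.mem_T.2 ⟨1, 0, by simp⟩)

@[simp] theorem p_v' : I.p I.v' = 0 :=
  (Submodule.projectionOnto_apply_eq_zero_iff _).2 (I.mem_T.2 ⟨0, 1, by simp⟩)

theorem P.eq {I : G.Iso v} {y : V} (h : I.P y) : ∃ a : R, y = I.p y + a • v := by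
  obtain ⟨a, w, rfl⟩ := h.dec
  exact ⟨a, by simp⟩

variable (Q)

/-- the action on `v^⊥ / v` -/
noncomputable def r : G.grp Q v →* Perm I.W × ℤˣ :=
  actH (G.grp Q v).subtype I.p I.p_W fun x y w => by
    obtain ⟨a, e⟩ := (I.map_P y.2 (I.P_W w)).eq
    conv_lhs => rw [show ((G.grp Q v).subtype y).1 w = _ from e]
    simp [x.2.add, map_v x.2]

theorem r_apply (x : G.grp Q v) (w : I.W) : (I.r Q x).1 w = I.p (x.1.1 w) := rfl

theorem r_mem (x : G.grp Q v) : (G.res _ I.nd.perp).Mem (G.res _ I.nd.perp).q0 0 (I.r Q x) := by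
  refine ⟨fun y z => ?_, fun a y => by simp [r_apply, x.2.lin]; rfl, fun _ => rfl,
    by simp [r_apply, x.2.zero]⟩
  obtain ⟨a, e⟩ := (I.map_P x.2 (I.P_W y)).eq
  obtain ⟨a', e'⟩ := (I.map_P x.2 (I.P_W z)).eq
  rw [res_b, res_b, ← x.2.iso y, e, e']
  simp [r_apply, (I.P_W _).b, I.P_W _ a, I.P_v a' a]

noncomputable def H : Subgroup (G.grp Q v) := (I.r Q).ker

instance instNormalH : (I.H Q).Normal := (I.r Q).normal_ker

def L : Subgroup (G.grp Q v) := (MulAction.stabilizer (Perm V) I.v').comap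
  ((MonoidHom.fst _ _).comp (G.grp Q v).subtype)

variable {Q}

/-- the `W`-component of the image of `v'` -/
noncomputable def π (x : G.grp Q v) : I.W := I.p (x.1.1 I.v')

variable {I}

omit [Finite V] in
theorem mem_L {x : G.grp Q v} : x ∈ I.L Q ↔ x.1.1 I.v' = I.v' := Iff.rfl

theorem mem_H {x : G.grp Q v} :
    x ∈ I.H Q ↔ x.1.2 = 1 ∧ ∀ y, I.P y → ∃ a : R, x.1.1 y = y + a • v := by
  refine ⟨fun h => ⟨congrArg Prod.snd h, fun y hy => ?_⟩, fun h => Prod.ext (Perm.ext fun w => ?_) h.1⟩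
  · obtain ⟨a, w, rfl⟩ := hy.dec
    obtain ⟨c, e⟩ := (I.map_P x.2 (I.P_W w)).eq
    have : I.p (x.1.1 w) = w := congrArg (fun z : Perm I.W × ℤˣ => z.1 w) h
    exact ⟨c, by rw [x.2.add, x.2.lin1 (congrArg Prod.snd h), x.2.fix, e, this]; abel⟩
  · obtain ⟨a, e⟩ := h.2 w (I.P_W w)
    simp [r_apply, e]

theorem π_spec (x : G.grp Q v) : ∃ c : R, x.1.1 I.v' = I.v' + I.π x + c • v := by
  obtain ⟨w, c, e⟩ := map_v' I x.2
  exact ⟨c, by simp [π, e]⟩

theorem π_mul (x y : G.grp Q v) : I.π (x * y) = I.π x + (I.r Q x).1 (I.π y) := by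
  obtain ⟨c, e⟩ := π_spec (I := I) y
  rw [π, show (x * y).1.1 I.v' = x.1.1 (y.1.1 I.v') from rfl, e, x.2.add, x.2.add, map_v x.2]
  simp [π, r_apply]

theorem π_mul_H {x : G.grp Q v} (h : x ∈ I.H Q) (y : G.grp Q v) : I.π (x * y) = I.π x + I.π y := by
  rw [π_mul, show I.r Q x = 1 from h]; rfl

theorem π_L {x : G.grp Q v} (h : x ∈ I.L Q) : I.π x = 0 := by simp [π, mem_L.1 h]

theorem π_conj {y : G.grp Q v} (hy : y ∈ I.L Q) {h : G.grp Q v} (hh : h ∈ I.H Q) :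
    I.π (y * h * y⁻¹) = (I.r Q y).1 (I.π h) := by
  rw [mul_assoc, π_mul, π_mul_H hh, π_L hy, π_L (inv_mem hy), zero_add, add_zero]

/-- action of `H` on `v^⊥` -/
theorem H_act {h : G.grp Q v} (hh : h ∈ I.H Q) {y : V} (hy : I.P y) :
    ∃ a : R, h.1.1 y = y + a • v ∧ ∀ s, I.τ (s * a) = G.b (s • y) (I.π h) := by
  obtain ⟨a, e⟩ := (mem_H.1 hh).2 y hy
  obtain ⟨c, e'⟩ := π_spec (I := I) h
  refine ⟨a, e, fun s => ?_⟩
  have := h.2.iso (s • y) I.v'
  have h1 := (I.P_smul hy s).b c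
  have h2 := I.P_v c (s * a)
  have h3 := I.P_W (I.π h) (s * a)
  simp only [h.2.lin1 (mem_H.1 hh).1, e, e', smul_add, map_add, AddMonoidHom.add_apply,
    ← mul_smul, τ] at *
  grind

theorem ext_lin {x y : G.grp Q v} (e : x.1.2 = y.1.2) (h1 : ∀ u, I.P u → x.1.1 u = y.1.1 u)
    (h2 : x.1.1 I.v' = y.1.1 I.v') : x = y := Subtype.ext (Prod.ext (Perm.ext fun z => by
  obtain ⟨u, c, h, rfl⟩ := I.dec' z
  rw [x.2.add, y.2.add, h1 u h, x.2.lin, y.2.lin, e, h2]) e)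

theorem Z_act {h : G.grp Q v} (hh : h ∈ I.H Q) (h0 : I.π h = 0) {y : V} (hy : I.P y) :
    h.1.1 y = y := by
  obtain ⟨a, e, k⟩ := H_act hh hy
  rw [e, I.fr a fun s => by simpa [h0, τ] using k s, add_zero]

theorem ext_H {x y : G.grp Q v} (hx : x ∈ I.H Q) (hy : y ∈ I.H Q) (e : x.1.1 I.v' = y.1.1 I.v') :
    x = y := by
  refine ext_lin ((mem_H.1 hx).1.trans (mem_H.1 hy).1.symm) (fun u hu => ?_) e
  obtain ⟨a, e1, k⟩ := H_act hx hu
  obtain ⟨a', e2, k'⟩ := H_act hy hu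
  rw [e1, e2, I.eq_of_τ (a := a) (c := a') fun s => by rw [k, k', π, π, e]]

theorem Z_comm {z : G.grp Q v} (hz : z ∈ I.H Q) (h0 : I.π z = 0) (g : G.grp Q v) (e : g.1.2 = 1) :
    g * z = z * g := by
  refine ext_lin (I := I) (mul_comm _ _) (fun u hu => ?_) ?_
  · change g.1.1 (z.1.1 u) = z.1.1 (g.1.1 u)
    rw [Z_act hz h0 hu, Z_act hz h0 (I.map_P g.2 hu)]
  · obtain ⟨c, e1⟩ := π_spec (I := I) z
    obtain ⟨c', e2⟩ := π_spec (I := I) g
    change g.1.1 (z.1.1 _) = z.1.1 (g.1.1 _)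
    rw [e1, h0, e2, add_assoc _ (I.π g : V), z.2.add, Z_act hz h0 (I.P_add (I.P_W _) (I.P_v _)),
      g.2.add, g.2.add, e1, e2, h0, g.2.lin1 e, g.2.fix]
    simp [g.2.zero]; abel

theorem exists_H (w : I.W) (c : R) (h : ∀ s : R, G.b (s • (I.v' + w + c • v)) (I.v' + w + c • v) =
    G.b (s • I.v') I.v') (h1 : ∀ y, I.P y → ∀ a : R, (∀ s, I.τ (s * a) = G.b (s • y) w) →
      Q.q (y + a • v) = Q.q y)
    (h2 : ∀ s : R, Q.q (s • (I.v' + w + c • v)) = Q.q (s • I.v')) :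
    ∃ g ∈ I.H Q, g.1.1 I.v' = I.v' + w + c • v := by
  obtain ⟨g, m, e, k⟩ := I.eich w c h
  have hH : (⟨(g, 1), m⟩ : G.grp G.q0 v) ∈ I.H G.q0 := mem_H.2 ⟨rfl, k⟩
  refine ⟨⟨(g, 1), m.iso, m.lin, fun y => ?_, m.fix⟩, mem_H.2 ⟨rfl, k⟩, e⟩
  obtain ⟨u, s, hu, rfl⟩ := I.dec' y
  obtain ⟨a, e1, k1⟩ := H_act hH hu
  rw [m.add, Q.add, Q.add, m.iso, m.lin1 rfl, e, h2, e1, h1 u hu a (by simpa [π, e] using k1)]

theorem HL (h1 : ∀ y, I.P y → ∀ a : R, Q.q (y + a • v) = Q.q y)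
    (h2 : Q.κ = 1 → ∀ (s : R) (y : V), star s • y = s • y) (x : G.grp Q v) :
    ∃ h ∈ I.H Q, ∃ y ∈ I.L Q, x = h * y := by
  obtain ⟨c, e⟩ := π_spec (I := I) x
  have a : ∀ s : R, s • x.1.1 I.v' = x.1.1 (st x.1.2 s • I.v') := fun s => by rw [x.2.lin, st_st]
  obtain ⟨g, hg, e'⟩ := exists_H (Q := Q) (I.π x) c (fun s => by
    rw [← e, a, x.2.iso]
    rcases Int.units_eq_one_or x.1.2 with k | k <;> simp only [k, st_one, st_neg]
    rw [← G.adj', G.symm]) (fun y hy a _ => h1 y hy a) fun s => by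
      rw [← e, a, x.2.q]
      rcases Int.units_eq_one_or x.1.2 with k | k <;> simp only [k, st_one, st_neg]
      by_cases k0 : Q.κ = 0
      · rw [Q.h0 k0, Q.h0 k0]
      · rw [h2 (by revert k0; generalize Q.κ = t; decide +revert)]
  refine ⟨g, hg, g⁻¹ * x, mem_L.2 ?_, by simp⟩
  change g.1.1⁻¹ (x.1.1 _) = _
  rw [e, ← e']; simp

theorem disj {y : G.grp Q v} (h : y ∈ I.H Q) (h' : y ∈ I.L Q) : y = 1 := ext_H h (one_mem _) h'

/-- extension of a linear isometry of `W` by the identity -/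
theorem exists_L (g : Perm I.W) (i : ∀ y z, G.b (g y) (g z) = G.b y z)
    (l : ∀ (a : R) y, g (a • y) = a • g y) (hq : ∀ y, Q.q (g y) = Q.q y) :
    ∃ y ∈ I.L Q, I.r Q y = (g, 1) := by
  obtain ⟨f, m, f1, f2⟩ := glue I.nd.isCompl (fun w hw t ht => hw t ht) g 1 i (fun _ _ => rfl) l
    fun _ _ => rfl
  refine ⟨⟨(f, 1), m.iso, m.lin, fun y => ?_, f2 ⟨v, I.mem_T.2 ⟨1, 0, by simp⟩⟩⟩,
    f2 ⟨_, I.mem_T.2 ⟨0, 1, by simp⟩⟩, Prod.ext (Perm.ext fun w => by simp [r_apply, f1]) rfl⟩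
  obtain ⟨a, c, w, rfl⟩ := I.dec y
  have := f2 ⟨_, I.mem_T.2 ⟨a, c, rfl⟩⟩
  rw [m.add, Q.add, Q.add (_ + _), m.iso, f1, hq]
  exact congrArg (fun t => Q.q t + _ + _) this

theorem L_act {y : G.grp Q v} (h : y ∈ I.L Q) (w : I.W) : y.1.1 w = (I.r Q y).1 w := by
  have : y.1.1 w ∈ I.W := I.mem_W.2 ⟨I.map_P y.2 (I.P_W w), fun a => by
    rw [← st_st y.1.2 a, ← mem_L.1 h, ← y.2.lin, y.2.iso, bW']⟩
  exact (congrArg Subtype.val (I.p_W ⟨_, this⟩)).symm

end Iso

end Geo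

end Cfsg.Agent.FS
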