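import Cfsg.Agent.FS.G2
import Cfsg.Agent.FS.Dk

/-! Artin–Schreier correction of isometries; the complement given by the Dickson invariant. -/

set_option autoImplicit false

namespace Cfsg.Agent.FS

open Equiv

variable {R V : Type*} [CommRing R] [StarRing R] [AddCommGroup V] [Module R V]

variable (R V) in
/-- symmetric elements act as zero or injectively -/
def Sim : Prop :=
  ∀ a : R, (∀ x : V, star a • x = a • x) → (∀ x : V, a • x = 0) ∨ ∀ x : V, a • x = 0 → x = 0

variable (R V) in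
/-- the involution is trivial on `V` -/
def Triv : Prop := ∀ (a : R) (x : V), star a • x = a • x

theorem Triv.st (h : Triv R V) (s : ℤˣ) (a : R) (x : V) : st s a • x = a • x := by
  rcases Int.units_eq_one_or s with rfl | rfl <;> simp [h a x]

namespace Geo

variable {G : Geo R V} {v : V}

include G in
theorem exists_inv {a : R} (h : ∀ x : V, a • x = 0 → x = 0) : ∃ n, ∀ x : V, (a ^ n * a) • x = x := by
  obtain ⟨n, h0, hn⟩ := G.red a
  obtain ⟨m, e⟩ : ∃ m, 2 ^ n = m + 2 :=
    ⟨2 ^ n - 2, (Nat.sub_add_cancel (Nat.le_self_pow h0.ne' 2)).symm⟩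
  exact ⟨m, fun x => sub_eq_zero.1 (h _ (by
    rw [smul_sub, ← hn x, e, ← mul_smul, sub_eq_zero]; congr 1; ring))⟩

theorem Quad.add1 {Q : G.Quad} (k : Q.κ = 1) (x y : V) : Q.q (x + y) = Q.q x + Q.q y + G.b x y := by
  rw [Q.add, k, one_mul]

theorem alt' (tr : Triv R V) (a c : R) (x : V) : G.b (a • x) (c • x) = 0 := by
  obtain ⟨r, hr⟩ := G.exists_sqrt (star c * a)
  rw [G.adj', ← mul_smul, ← hr, mul_smul, G.adj, tr, G.alt]

namespace Iso

variable (I : G.Iso v)

theorem eq_of_τ2 {a c : R} (h : ∀ s, I.τ (s * s * a) = I.τ (s * s * c)) : ∀ x : V, a • x = c • x :=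
  I.eq_of_τ fun s => by
    obtain ⟨r, hr⟩ := G.exists_sqrt s
    rw [← I.τ_congr (a := r * r * a) fun x => by rw [mul_smul, hr, mul_smul], h,
      I.τ_congr (c := s * c) fun x => by rw [mul_smul, hr, ← mul_smul]]

theorem τ_zero {a : R} (h : ∀ x : V, a • x = 0) : I.τ a = 0 := by rw [τ, h]; simp

include I in
theorem kill_v {a : R} (h : a • v = 0) : ∀ x : V, a • x = 0 :=
  I.fr a fun s => by rw [mul_smul, h]; simp

variable [Finite V]

theorem frob2 (f : R →+ ZMod 2) (h : ∀ a, (∀ x : V, a • x = 0) → f a = 0) :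
    ∃ e, ∀ s, f s = I.τ (s * s * e) := by
  choose r hr using G.exists_sqrt
  have k : ∀ {a c : R}, (∀ x : V, (a * a) • x = (c * c) • x) → f a = f c := fun {a c} e =>
    sub_eq_zero.1 (by
      rw [← map_sub]
      refine h _ fun x => G.kill_sq ?_
      rw [show (a - c) * (a - c) = a * a - c * c + ((c * c - a * c) + (c * c - a * c)) by ring,
        add_smul, add_smul (_ - _), G.two, sub_smul, e, sub_self, add_zero])
  obtain ⟨e, he⟩ := I.frob (AddMonoidHom.mk' (fun t => f (r t)) fun a c => by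
    rw [← map_add]
    refine k fun x => ?_
    rw [show (r a + r c) * (r a + r c) = r a * r a + r c * r c + (r a * r c + r a * r c) by ring,
      add_smul, add_smul (r a * r c), G.two, add_zero, add_smul, hr, hr, hr, add_smul])
    fun a ha => (k (c := 0) fun x => by rw [hr, ha]; simp).trans (map_zero f)
  exact ⟨e, fun s => (k fun x => (hr _ x).symm).trans (he _)⟩

theorem exists_B (x y : V) : ∃ e, ∀ s : R, G.b (s • x) y = I.τ (s * e) :=
  I.frob (AddMonoidHom.mk' (fun s => G.b (s • x) y) fun _ _ => by simp [add_smul]) fun a h => by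
    simp [h]

/-- the `R`-valued form -/
noncomputable def B (x y : V) : R := (I.exists_B x y).choose

theorem τ_B (s : R) (x y : V) : I.τ (s * I.B x y) = G.b (s • x) y :=
  ((I.exists_B x y).choose_spec s).symm

theorem B_add (x y z u : V) : I.B (x + y) z • u = I.B x z • u + I.B y z • u := by
  rw [← add_smul]
  exact I.eq_of_τ (fun s => by simp [mul_add, τ_add, τ_B]) u

theorem B_smul (a : R) (x y u : V) : I.B (a • x) y • u = (a * I.B x y) • u :=
  I.eq_of_τ (fun s => by rw [← mul_assoc, τ_B, τ_B, mul_smul]) u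

theorem B_star (x y u : V) : I.B x y • u = star (I.B y x) • u :=
  I.eq_of_τ (fun s => by
    rw [← I.τ_star (s * star _), star_mul', star_star, τ_B, τ_B, G.symm, G.adj']) u

theorem H_act' {Q : G.Quad} {h : G.grp Q v} (hh : h ∈ I.H Q) {y : V} (hy : I.P y) :
    h.1.1 y = y + I.B y (I.π h) • v := by
  obtain ⟨a, e, k⟩ := H_act hh hy
  rw [e, I.eq_of_τ (a := a) (c := I.B y (I.π h)) fun s => by rw [k, ← I.τ_B]]

theorem exists_q {Q : G.Quad} (k : Q.κ = 1) (tr : Triv R V) (y : V) :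
    ∃ e, ∀ s : R, Q.q (s • y) = I.τ (s * s * e) :=
  I.frob2 (AddMonoidHom.mk' (fun s => Q.q (s • y)) fun _ _ => by
    rw [add_smul, Quad.add1 k, alt' tr, add_zero]) fun a h => by simp [h, Q.zero]

theorem exists_Z (tr : Triv R V) (c : R) :
    ∃ z ∈ I.H G.q0, I.π z = 0 ∧ z.1.1 I.v' = I.v' + c • v := by
  obtain ⟨z, hz, e⟩ := exists_H (I := I) (Q := G.q0) 0 c (fun s => by
    simpa only [one_smul] using (G.alt' tr s 1 _).trans (G.alt' tr s 1 I.v').symm) (fun _ _ _ _ => rfl) fun _ => rfl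
  exact ⟨z, hz, by simp [π, e], by simpa using e⟩

theorem fixq {Q : G.Quad} (k : Q.κ = 1) (tr : Triv R V) (sim : Sim R V) (x : Perm V)
    (i : ∀ y z, G.b (x y) (x z) = G.b y z) (hP : ∀ y, I.P y → Q.q (x y) = Q.q y) :
    ∃ z ∈ I.H G.q0, I.π z = 0 ∧ ∀ y, Q.q (z.1.1 y) = Q.q (x y) := by
  obtain ⟨z, hz⟩ := G.exists_rep (AddMonoidHom.mk' (fun y => Q.q (x y) + Q.q y) fun y y' => by
    rw [G.add_of_iso x i, Quad.add1 k, Quad.add1 k, i]; grind)
  have hz' : ∀ y, Q.q (x y) = Q.q y + G.b y z := fun y => by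
    rw [G.symm, hz, AddMonoidHom.mk'_apply]; grind
  obtain ⟨f, rfl⟩ := I.of_perp (z := z) fun y hy => by simpa [hP y hy] using hz' y
  have g0 := gauss G.b (fun y h => G.nd y fun u => by rw [G.symm, h]) Q.q (Quad.add1 k) x _ hz'
  obtain ⟨e, he⟩ := I.frob (AddMonoidHom.mk' (fun s : R => Q.q (s • v)) fun _ _ => by
    rw [add_smul, Quad.add1 k, alt' tr, add_zero]) fun a h => by simp [h, Q.zero]
  simp only [AddMonoidHom.mk'_apply] at he
  obtain ⟨φ, φ1, φ2⟩ := sep (B := V × ZMod 2) (fun b => Prod.ext (G.two _) (CharTwo.add_self_eq_zero _))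
    (AddMonoidHom.mk' (fun s : R => ((s * e + s * s) • v, I.τ (s * f))) fun s t => Prod.ext (by
      rw [show (s + t) * e + (s + t) * (s + t) = s * e + s * s + (t * e + t * t) + (s * t + s * t) by
        ring, add_smul, add_smul (s * t), G.two, add_zero, add_smul]; rfl)
      (by rw [add_mul s t f, τ_add]; rfl)).range (x := (0, 1)) (by
    rintro ⟨s, hs⟩
    have h1 : (s * e + s * s) • v = 0 := congrArg Prod.fst hs
    have h2 : I.τ (s * f) = 1 := congrArg Prod.snd hs
    rcases sim s (tr s) with h | h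
    · rw [I.τ_zero fun y => by rw [mul_smul, h]] at h2; exact zero_ne_one h2
    · have := I.kill_v (h ((e + s) • v) (by rw [← h1, ← mul_smul, mul_add]))
      rw [I.τ_congr (c := f * e) fun y => by
        rw [mul_comm, mul_smul, mul_smul, ← zero_add (e • y), ← this y, add_smul, add_right_comm,
          G.two, zero_add], ← he, g0] at h2
      exact zero_ne_one h2)
  obtain ⟨c, hc⟩ := I.frob (AddMonoidHom.mk' (fun a : R => φ (a • v, 0)) fun a b => by
    rw [← map_add, add_smul]; simp) fun a h => by simp [h, Prod.mk_zero_zero]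
  have as : ∀ s, I.τ (s * f) = Q.q ((s * c) • v) + I.τ (s * s * c) := fun s => by
    have h1 := φ2 _ ⟨s, rfl⟩
    have h2 := hc (s * e + s * s)
    have h3 : ∀ t, φ (0, t) = t := fun t => by
      rcases (by decide : ∀ t : ZMod 2, t = 0 ∨ t = 1) t with rfl | rfl
      · exact map_zero φ
      · exact ((by decide : ∀ t : ZMod 2, t = 0 ∨ t = 1) _).resolve_left φ1
    rw [AddMonoidHom.mk'_apply] at h1 h2
    rw [← Prod.fst_add_snd (_, _), map_add, h3, h2, add_mul, τ_add] at h1
    rw [he, mul_right_comm]; grind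
  obtain ⟨z, hz, h0, e'⟩ := I.exists_Z tr c
  refine ⟨z, hz, h0, fun y => ?_⟩
  obtain ⟨u, s, hu, rfl⟩ := I.dec' y
  have h1 := hu.b (s * c)
  have h2 := hu.b f
  have h3 := I.bv'v (s * c) s
  have h4 := I.bv'v f s
  rw [I.τ_congr (c := s * s * c) fun y => by rw [mul_smul, tr, ← mul_smul, mul_assoc]] at h3
  rw [I.τ_congr (c := s * f) fun y => by rw [mul_smul, tr, ← mul_smul], as] at h4
  rw [hz', z.2.add, Z_act hz h0 hu, z.2.lin1 (mem_H.1 hz).1, e', smul_add, ← mul_smul, ← add_assoc,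
    Quad.add1 k]
  simp only [map_add, AddMonoidHom.add_apply, h1, h2, h3, h4, zero_add, add_assoc]

theorem exists_compl {Q : G.Quad} (k : Q.κ = 1) (tr : Triv R V) (sim : Sim R V) {e : R}
    (he : ∀ s : R, Q.q ((s * e) • v) = I.τ (s * s * e)) (e0 : e • v ≠ 0) {t : G.grp Q v}
    (ht : ∀ y, t.1.1 y = y + (e * I.B v y) • v) :
    ∃ L : Subgroup (G.grp Q v), t ∉ L ∧ ∀ x, x ∈ L ∨ t * x ∈ L := by
  let mk := Ideal.Quotient.mk (Module.annihilator R V)
  have eq : ∀ {a c : R}, mk a = mk c ↔ ∀ x : V, a • x = c • x := fun {a c} => by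
    simp [mk, Ideal.Quotient.eq, Module.mem_annihilator, sub_smul, sub_eq_zero]
  have sj : Function.Surjective mk := Ideal.Quotient.mk_surjective
  have v0 : v ≠ 0 := fun h => e0 (by simp [h])
  have fi : IsField (R ⧸ Module.annihilator R V) := ⟨⟨mk 1, mk 0, fun h => v0 (by simpa using eq.1 h v)⟩,
    mul_comm, fun {a} ha => by
      obtain ⟨a, rfl⟩ := sj a
      obtain ⟨n, hn⟩ := G.exists_inv ((sim a (tr a)).resolve_left fun h =>
        ha ((@eq _ 0).2 (by simpa using h)))
      exact ⟨mk (a ^ n), (map_mul mk _ _).symm.trans ((@eq _ 1).2 (by simpa [mul_comm] using hn))⟩⟩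
  let _ := fi.toField
  let _ : Module (R ⧸ Module.annihilator R V) V := Module.quotientAnnihilator
  have sm : ∀ (a : R) (x : V), mk a • x = a • x := fun _ _ => rfl
  choose qf hq using I.exists_q k tr
  have po : ∀ x y, QuadraticMap.polar (fun y => mk (qf y)) x y = mk (I.B x y) := fun x y => by
    rw [QuadraticMap.polar, ← map_sub, ← map_sub]
    refine eq.2 (I.eq_of_τ2 fun s => ?_)
    have h1 := I.τ_add (s * s * (qf (x + y) - qf x - qf y)) (s * s * qf x + s * s * qf y)
    rw [show s * s * (qf (x + y) - qf x - qf y) + (s * s * qf x + s * s * qf y) =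
      s * s * qf (x + y) by ring, τ_add, ← hq, ← hq, ← hq, smul_add, Quad.add1 k, G.adj', tr] at h1
    rw [τ_B, mul_smul]; grind
  obtain ⟨D, D1, D2⟩ := dickson (K := R ⧸ Module.annihilator R V) (U := V)
    ((map_ofNat mk 2).symm.trans ((@eq _ 0).2 fun x => by rw [two_smul, G.two, zero_smul]))
    (QuadraticMap.ofPolar (fun y => mk (qf y)) (fun a x => by
      obtain ⟨a, rfl⟩ := sj a
      rw [smul_eq_mul, ← map_mul, ← map_mul, sm]
      exact eq.2 (I.eq_of_τ2 fun s => by rw [← hq, ← mul_smul, hq]; congr 1; ring))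
      (fun x x' y => by
        rw [po, po, po, ← map_add]; exact eq.2 fun u => by rw [B_add, add_smul])
      fun a x y => by
        obtain ⟨a, rfl⟩ := sj a
        rw [po, po, smul_eq_mul, ← map_mul]; exact eq.2 (I.B_smul _ _ _))
    fun x h => G.nd x fun y => by
      have := I.τ_B 1 x y
      rw [I.τ_zero fun u => by simpa using (@eq _ 0).1 ((po x y).symm.trans (h y)) u] at this
      simpa using this.symm
  let φ : G.grp Q v →* Module.End (R ⧸ Module.annihilator R V) V :=
    ⟨⟨fun x => ⟨⟨x.1.1, x.2.add⟩, fun a y => by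
      obtain ⟨a, rfl⟩ := sj a
      exact (x.2.lin a y).trans (tr.st _ _ _)⟩, rfl⟩, fun _ _ => rfl⟩
  have iso : ∀ x y, mk (qf (φ x y)) = mk (qf y) := fun x y => eq.2 (I.eq_of_τ2 fun s => by
    rw [← hq, ← hq, ← x.2.q (s • y), x.2.lin, tr.st]; rfl)
  have D3 : ∀ x y, D (φ.toHomUnits (x * y)) = D (φ.toHomUnits x) + D (φ.toHomUnits y) :=
    fun x y => by rw [map_mul]; exact D1 _ _ (iso x) (iso y)
  have D4 : D (φ.toHomUnits t) = 1 := D2 _ v (mk e) ((map_mul mk _ _).symm.trans ((@eq _ 1).2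
    fun x => by
      refine sub_eq_zero.1 (((sim e (tr e)).resolve_left fun h => e0 (h v)) _ ?_)
      rw [smul_sub, ← mul_smul, ← mul_smul, sub_eq_zero]
      exact I.eq_of_τ2 (fun s => by rw [mul_one, ← he, hq]; congr 1; ring) x)) fun y =>
      (ht y).trans (congrArg (fun a => y + (mk e * a) • v) (po v y).symm)
  obtain ⟨ψ, ψ1, -⟩ := sep (B := R ⧸ Module.annihilator R V) (fun b => by
    obtain ⟨a, rfl⟩ := sj b
    exact (map_add mk _ _).symm.trans ((@eq _ 0).2 fun x => by rw [add_smul, G.two, zero_smul])) ⊥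
    (x := 1) (by simp)
  let δ : G.grp Q v →* Multiplicative (ZMod 2) := MonoidHom.mk' (fun x =>
    Multiplicative.ofAdd (ψ (D (φ.toHomUnits x)))) fun x y => by rw [D3, map_add]; rfl
  refine ⟨δ.ker, fun h => ψ1 (D4 ▸ h), fun x => ?_⟩
  change ψ _ = 0 ∨ ψ _ = 0
  rw [D3, D4, map_add]
  exact (by decide : ∀ a b : ZMod 2, a ≠ 0 → b = 0 ∨ a + b = 0) _ _ ψ1

end Iso

end Geo

end Cfsg.Agent.FS
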