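import Cfsg.Agent.FS.G3

/-! Reduction steps: orthogonal splitting and descent along the unipotent radical. -/

set_option autoImplicit false

namespace Cfsg.Agent.FS

open Equiv

section
variable {Γ : Type*} [Group Γ] {ε : Γ →* ℤˣ} {W : Type} [AddCommGroup W] [Module ℂ W]

theorem nq_triv (h : ∀ g, ε g = 1 → g = 1) : NQ ε := nq_of_bad fun W _ _ _ S hb => by
  have := hb.nt
  obtain ⟨w, hw⟩ := exists_ne (0 : W)
  obtain ⟨x, hx, n⟩ := hb.exists_ne hw
  have := S.skew hx w w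
  rw [inv_eq_of_mul_eq_one_right (h (x * x) (by simp [hx]))] at this
  exact n (by linear_combination this / 2)

theorem Sit.Bad.central {S : Sit ε W} (hb : S.Bad) {z : Γ} (hz : ε z = 1)
    (c : ∀ g, ε g = 1 → g * z = z * g) (h2 : z * z = 1) : S.ρ z = 1 ∨ S.ρ z = -1 := by
  rcases hb.min.2 (LinearMap.ker (S.ρ z - 1)) le_top (fun g hg u hu => by
    simp only [LinearMap.mem_ker, LinearMap.sub_apply, Module.End.one_apply, sub_eq_zero] at hu ⊢
    rw [← S.mul' hz hg, ← c g hg, S.mul' hg hz, hu]) with e | e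
  · refine Or.inr (LinearMap.ext fun w => ?_)
    have : w + S.ρ z w ∈ LinearMap.ker (S.ρ z - 1) := by
      simp [← S.mul' hz hz, h2, S.one, add_comm]
    rw [e, Submodule.mem_bot] at this
    simpa using eq_neg_of_add_eq_zero_right this
  · exact Or.inl (sub_eq_zero.1 (LinearMap.ker_eq_top.1 e))

end

/-- discrete logarithm of a sign -/
def lg (s : ℤˣ) : ZMod 2 := if s = 1 then 0 else 1

theorem lg_mul (s t : ℤˣ) : lg (s * t) = lg s + lg t := by
  rcases Int.units_eq_one_or s with rfl | rfl <;> rcases Int.units_eq_one_or t with rfl | rfl <;> rfl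

theorem lg_inj {s t : ℤˣ} (h : lg s = lg t) : s = t := by
  rcases Int.units_eq_one_or s with rfl | rfl <;> rcases Int.units_eq_one_or t with rfl | rfl <;>
    first | rfl | exact absurd h (by decide)

variable {R V : Type*} [CommRing R] [StarRing R] [AddCommGroup V] [Module R V]

variable (R V) in
/-- the induction hypothesis for proper submodules -/
def IH1 : Prop := ∀ W : Submodule R V, W ≠ ⊤ → ∀ (G : Geo R W) (Q : G.Quad) (z : W),
  Geo.OK Q z → NQ (G.sgn Q z)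

namespace Geo

variable {G : Geo R V} {Q : G.Quad} {v : V}

theorem nq_tr {Δ : Type*} [Group Δ] {ε : Δ →* ℤˣ} (h : NQ (G.sgn Q v)) (f : Δ →* Perm V × ℤˣ)
    (hs : ∀ y, (f y).2 = ε y) (hm : ∀ y, G.Mem Q v (f y)) (hi : ∀ y, f y = 1 → y = 1)
    (sj : ∀ g : Perm V, G.Mem Q v (g, 1) → ∃ y, f y = (g, 1)) : NQ ε :=
  h.of_inj (f.codRestrict _ hm) hs
    ((injective_iff_map_eq_one _).2 fun y e => hi y (congrArg Subtype.val e)) fun ⟨⟨g, s⟩, m⟩ e => by
      obtain rfl : s = 1 := e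
      exact (sj g m).imp fun y hy => Subtype.ext hy

open Classical in
/-- restriction to an invariant submodule -/
noncomputable def rs {W : Submodule R V} (h : ∀ x : G.grp Q v, ∀ w ∈ W, x.1.1 w ∈ W) :
    G.grp Q v →* Perm W × ℤˣ :=
  actH (G.grp Q v).subtype (fun y => if h : y ∈ W then ⟨y, h⟩ else 0) (fun w => dif_pos w.2)
    fun x y w => by rw [dif_pos (show ((G.grp Q v).subtype y).1 w ∈ W from h y w w.2)]

theorem rs_apply {W : Submodule R V} (h : ∀ x : G.grp Q v, ∀ w ∈ W, x.1.1 w ∈ W) (x : G.grp Q v)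
    (w : W) : ((rs h x).1 w : V) = x.1.1 w := congrArg Subtype.val (dif_pos (h x w w.2))

theorem rs_mem {W : Submodule R V} (nd : G.ND W) (h : ∀ x : G.grp Q v, ∀ w ∈ W, x.1.1 w ∈ W)
    (x : G.grp Q v) {z : W} (hz : x.1.1 z = z) : (G.res W nd).Mem (Q.res W nd) z (rs h x) :=
  ⟨fun y z => by rw [res_b, rs_apply, rs_apply, x.2.iso, res_b],
    fun a y => Subtype.ext (by
      rw [rs_apply, Submodule.coe_smul, Submodule.coe_smul, rs_apply, x.2.lin]; rfl),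
    fun y => (congrArg Q.q (rs_apply h x y)).trans (x.2.q y), Subtype.ext ((rs_apply h x z).trans hz)⟩

variable [Finite V]

theorem split {W : Submodule R V} (nd : G.ND W) (h : ∀ x : G.grp Q v, ∀ w ∈ W, x.1.1 w ∈ W)
    (v₁ : G.perp W) (v₂ : W) (e : v = v₁ + v₂)
    (n1 : NQ ((G.res _ nd.perp).sgn (Q.res _ nd.perp) v₁))
    (n2 : NQ ((G.res _ nd).sgn (Q.res _ nd) v₂)) : NQ (G.sgn Q v) := by
  have h' : ∀ x : G.grp Q v, ∀ w ∈ G.perp W, x.1.1 w ∈ G.perp W := fun x w hw u hu => by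
    rw [← hw _ (h x⁻¹ u hu), ← x.2.iso (x⁻¹.1.1 u)]; simp
  have d : ∀ y : V, ∃ (w : G.perp W) (t : W), y = w + t := fun y => by
    obtain ⟨a, ha, c, hc, rfl⟩ :=
      Submodule.mem_sup.1 (nd.isCompl.sup_eq_top ▸ Submodule.mem_top (x := y))
    exact ⟨⟨a, ha⟩, ⟨c, hc⟩, rfl⟩
  have fx : ∀ x : G.grp Q v, x.1.1 v₁ = v₁ ∧ x.1.1 v₂ = v₂ := fun x => by
    have h1 : x.1.1 v₁ + x.1.1 v₂ = v₁ + v₂ := by rw [← x.2.add, ← e, x.2.fix]
    have h2 : x.1.1 v₂ - v₂ = v₁ - x.1.1 v₁ := by rw [sub_eq_sub_iff_add_eq_add, ← h1, add_comm]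
    have := nd _ (W.sub_mem (h x _ v₂.2) v₂.2) (h2 ▸ Submodule.sub_mem _ v₁.2 (h' x _ v₁.2))
    exact ⟨(sub_eq_zero.1 (h2 ▸ this)).symm, sub_eq_zero.1 this⟩
  refine NQ.of_prod (f₁ := (rs h').codRestrict _ fun x => rs_mem nd.perp h' x (fx x).1)
    (f₂ := (rs h).codRestrict _ fun x => rs_mem nd h x (fx x).2) n1 n2 (fun _ => rfl) (fun _ => rfl)
    (fun x a b => Subtype.ext (Prod.ext (Perm.ext fun y => ?_) (congrArg (·.1.2) a))) ?_
  · obtain ⟨w, t, rfl⟩ := d y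
    rw [x.2.add, ← rs_apply h', ← rs_apply h, show rs h' x = 1 from congrArg Subtype.val a,
      show rs h x = 1 from congrArg Subtype.val b]
    rfl
  · rintro ⟨⟨g₁, s₁⟩, m₁⟩ ⟨⟨g₂, s₂⟩, m₂⟩ (rfl : s₁ = 1) (rfl : s₂ = 1)
    obtain ⟨g, m, f1, f2⟩ := glue nd.isCompl (fun w hw t ht => hw t ht) g₁ g₂ m₁.iso m₂.iso
      (m₁.lin1 rfl) (m₂.lin1 rfl)
    refine ⟨⟨(g, 1), m.iso, m.lin, fun y => ?_, ?_⟩, Subtype.ext (Prod.ext (Perm.ext fun w =>
      Subtype.ext ((rs_apply h' _ w).trans (f1 w))) rfl), Subtype.ext (Prod.ext (Perm.ext fun w =>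
      Subtype.ext ((rs_apply h _ w).trans (f2 w))) rfl)⟩
    · obtain ⟨w, t, rfl⟩ := d y
      rw [m.add, Q.add, Q.add, m.iso, f1, f2]
      exact congrArg₂ (· + · + _) (m₁.q w) (m₂.q t)
    · rw [e, m.add, f1, f2]
      exact congrArg₂ (fun (a : G.perp W) (b : W) => (a : V) + b) m₁.fix m₂.fix

theorem ND.perp_ne {W : Submodule R V} (nd : G.ND W) (h : W ≠ ⊥) : G.perp W ≠ ⊤ := fun e =>
  h (eq_bot_iff.2 fun w hw => nd w hw (e ▸ Submodule.mem_top))

theorem nsim (ih : IH1 R V) (ok : OK Q v) (h : ¬ Sim R V) : NQ (G.sgn Q v) := by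
  simp only [Sim, not_forall, not_or] at h
  obtain ⟨a, h1, ⟨y, hy⟩, x, hx, x0⟩ := h
  obtain ⟨n, h0, hn⟩ := G.red a
  obtain ⟨m, e⟩ : ∃ m, 2 ^ n = m + 2 :=
    ⟨2 ^ n - 2, (Nat.sub_add_cancel (Nat.le_self_pow h0.ne' 2)).symm⟩
  have fa : ∀ u : V, a ^ (m + 1) • a • u = a • u := fun u => by rw [← mul_smul, ← pow_succ, ← hn u, e]
  have ff : ∀ u : V, a ^ (m + 1) • a ^ (m + 1) • u = a ^ (m + 1) • u := fun u => by
    rw [show a ^ (m + 1) • u = a • a ^ m • u by rw [pow_succ', mul_smul], fa]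
  have fs : ∀ (k : ℕ) (u : V), star (a ^ k) • u = a ^ k • u := fun k u => by
    induction k with
    | zero => simp
    | succ k ih => rw [pow_succ', star_mul', mul_smul, ih, h1, mul_smul]
  have nd : G.ND (LinearMap.ker (LinearMap.lsmul R V (a ^ (m + 1)))) := fun w hw hw' =>
    G.nd w fun u => by
      have h2 := hw' (u - a ^ (m + 1) • u) (by simp [smul_sub, ff])
      rw [map_sub, AddMonoidHom.sub_apply, G.adj, fs, show a ^ (m + 1) • w = 0 from hw] at h2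
      rw [G.symm]; simpa using h2
  refine split nd (fun g w hw => ?_) ⟨a ^ (m + 1) • v, fun w hw => ?_⟩
    ⟨v - a ^ (m + 1) • v, by simp [smul_sub, ff]⟩ (by simp)
    (ih _ (nd.perp_ne ((Submodule.ne_bot_iff _).2 ⟨x, by simp [pow_succ, mul_smul, hx], x0⟩)) _ _ _
      fun k c => Subtype.ext (by simp [smul_comm _ (a ^ (m + 1)), ok k c]))
    (ih _ (fun e => hy ((fa y).symm.trans (Submodule.eq_top_iff'.1 e (a • y)))) _ _ _
      fun k c => Subtype.ext (by simp [smul_sub, smul_comm _ (a ^ (m + 1)), ok k c]))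
  · have := g.2.lin (a ^ (m + 1)) w
    rw [show a ^ (m + 1) • w = 0 from hw, g.2.zero] at this
    rcases Int.units_eq_one_or g.1.2 with k | k <;> simp only [k, st_one, st_neg, fs] at this <;>
      exact this.symm
  · rw [G.adj', fs, show a ^ (m + 1) • w = 0 from hw]; simp

namespace Iso

variable {I : G.Iso v}

theorem W_ne (h : v ≠ 0) : I.W ≠ ⊤ :=
  I.nd.perp_ne ((Submodule.ne_bot_iff _).2 ⟨v, I.mem_T.2 ⟨1, 0, by simp⟩, h⟩)

theorem sgn_H {h : G.grp Q v} (hh : h ∈ I.H Q) : G.sgn Q v h = 1 := (mem_H.1 hh).1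

theorem r_inj {x y : G.grp Q v} (hx : x ∈ I.L Q) (hy : y ∈ I.L Q) (e : I.r Q x = I.r Q y) : x = y :=
  inv_mul_eq_one.1 (disj (show I.r Q _ = 1 by rw [map_mul, map_inv, e, inv_mul_cancel])
    (mul_mem (inv_mem hx) hy))

theorem π_inv {h : G.grp Q v} (hh : h ∈ I.H Q) : I.π h⁻¹ = I.π h := by
  have := π_mul_H hh h⁻¹
  rw [mul_inv_cancel, π_L (one_mem _)] at this
  rw [← add_zero (I.π h), this, ← add_assoc, (G.res _ I.nd.perp).two, zero_add]

theorem mul_v' {h h' : G.grp Q v} (hh : h ∈ I.H Q) {c c' : R} (e : h.1.1 I.v' = I.v' + I.π h + c • v)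
    (e' : h'.1.1 I.v' = I.v' + I.π h' + c' • v) : (h * h').1.1 I.v' =
      I.v' + (I.π h + I.π h') + (c + c' + I.B (I.π h') (I.π h)) • v := by
  change h.1.1 (h'.1.1 _) = _
  rw [e', h.2.add, h.2.add, e, I.H_act' hh (I.P_W _), h.2.lin1 (sgn_H hh), h.2.fix, add_smul,
    add_smul]
  abel

theorem comm_eq {h h' z : G.grp Q v} (hh : h ∈ I.H Q) (hh' : h' ∈ I.H Q) (hz : z ∈ I.H Q)
    (e : z.1.1 I.v' = I.v' + (I.B (I.π h) (I.π h') + I.B (I.π h') (I.π h)) • v) :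
    h' * h = h * h' * z := by
  obtain ⟨c, e1⟩ := π_spec (I := I) h
  obtain ⟨c', e2⟩ := π_spec (I := I) h'
  refine ext_H (mul_mem hh' hh) (mul_mem (mul_mem hh hh') hz) ?_
  change _ = (h * h').1.1 (z.1.1 _)
  rw [e, (h * h').2.add, mul_v' hh e1 e2, mul_v' hh' e2 e1, (h * h').2.lin1 (sgn_H (mul_mem hh hh')),
    (h * h').2.fix]
  have := G.two (I.B (I.π h') (I.π h) • v)
  simp only [add_smul]
  rw [← add_zero (_ + _ + (_ + _)), ← this]; abel

theorem H_comm (tr : Triv R V) {h h' : G.grp Q v} (hh : h ∈ I.H Q) (hh' : h' ∈ I.H Q) :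
    h' * h = h * h' := by
  simpa using comm_eq hh hh' (one_mem _) (by rw [add_smul, I.B_star, tr, G.two]; simp)

theorem H_sq {h : G.grp Q v} (hh : h ∈ I.H Q) (k : ∀ s : R, G.b (s • (I.π h : V)) (I.π h) = 0) :
    h * h = 1 := by
  obtain ⟨c, e⟩ := π_spec (I := I) h
  refine ext_H (mul_mem hh hh) (one_mem _) ?_
  rw [mul_v' hh e e, G.two, add_smul, add_smul, G.two, I.fr _ fun s => (I.τ_B s _ _).trans (k s)]
  simp

theorem descA (ih : IH1 R V) (v0 : v ≠ 0) (h2 : Q.κ = 1 → Triv R V)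
    (sur : ∀ w, ∃ h ∈ I.H Q, I.π h = w) (l : G.grp Q v → ℤˣ)
    (lm : ∀ a ∈ I.H Q, ∀ b ∈ I.H Q, l (a * b) = l a * l b)
    (l0 : ∀ z ∈ I.H Q, I.π z = 0 → l z = 1) :
    NQ ((G.sgn Q v).comp (stab (I.H Q) (I.L Q) l).subtype) := by
  choose σ σH σπ using sur
  have k : ∀ h ∈ I.H Q, l h = l (σ (I.π h)) := fun h hh => by
    have m := mul_mem (inv_mem hh) (σH (I.π h))
    rw [← mul_inv_cancel_left h (σ _), lm _ hh _ m, l0 _ m, mul_one]
    rw [π_mul_H (inv_mem hh), π_inv hh, σπ, (G.res _ I.nd.perp).two]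
  obtain ⟨z, hz⟩ := (G.res _ I.nd.perp).exists_rep (AddMonoidHom.mk' (fun w => lg (l (σ w)))
    fun w w' => by
      rw [← lg_mul, ← lm _ (σH w) _ (σH w'), k _ (mul_mem (σH w) (σH w')), π_mul_H (σH w), σπ, σπ])
  simp only [AddMonoidHom.mk'_apply] at hz
  refine nq_tr (ih _ (W_ne v0) _ (Q.res _ I.nd.perp) z fun e a => Subtype.ext (h2 e a z))
    ((I.r Q).comp (stab _ _ l).subtype) (fun _ => rfl) (fun y => ⟨(I.r_mem Q y).iso, (I.r_mem Q y).lin,
      fun w => (congrArg Q.q (L_act y.2.1 w).symm).trans (y.1.2.q w), (G.res _ I.nd.perp).ext' fun w => ?_⟩)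
    (fun y e => Subtype.ext (disj e y.2.1)) fun g m => ?_
  · obtain ⟨w, rfl⟩ := (I.r Q y).1.surjective w
    refine ((I.r_mem Q y).iso _ _).trans ?_
    rw [hz, hz, ← y.2.2 _ (σH w), k _ ((I.instNormalH Q).conj_mem _ (σH w) _), π_conj y.2.1 (σH w), σπ]
  · obtain ⟨y, hy, e⟩ := exists_L (Q := Q) g m.iso (m.lin1 rfl) m.q
    refine ⟨⟨y, hy, fun h hh => lg_inj ?_⟩, e⟩
    rw [k _ ((I.instNormalH Q).conj_mem _ hh _), π_conj hy hh, e, k h hh, ← hz, ← hz, ← m.iso z (I.π h),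
      m.fix]

theorem descB (ih : IH1 R V) (v0 : v ≠ 0) (k0 : Q.κ = 0) (tr : Triv R V) (sim : Sim R V)
    (l : G.grp Q v → ℤˣ) (lm : ∀ a ∈ I.H Q, ∀ b ∈ I.H Q, l (a * b) = l a * l b) :
    NQ ((G.sgn Q v).comp (stab (I.H Q) (I.L Q) l).subtype) := by
  choose ι ιH hι using fun (w : I.W) (c : R) => exists_H (Q := Q) w c (fun s => by
    simpa only [one_smul] using (G.alt' tr s 1 _).trans (G.alt' tr s 1 I.v').symm)
    (fun _ _ _ _ => by rw [Q.h0 k0, Q.h0 k0]) fun _ => by rw [Q.h0 k0, Q.h0 k0]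
  have ιπ : ∀ w c, I.π (ι w c) = w := fun w c => by simp [π, hι]
  have mul : ∀ w c w' c', ι w c * ι w' c' = ι (w + w') (c + c' + I.B w' w) := fun w c w' c' =>
    ext_H (mul_mem (ιH _ _) (ιH _ _)) (ιH _ _) (by
      rw [mul_v' (ιH _ _) (by rw [hι, ιπ]) (by rw [hι, ιπ]), hι, ιπ, ιπ]; rfl)
  have cg : ∀ w {c c' : R}, c • v = c' • v → ι w c = ι w c' := fun w c c' e =>
    ext_H (ιH _ _) (ιH _ _) (by rw [hι, hι, e])
  have B0 : ∀ y, I.B y (0 : I.W) • v = 0 := fun y => I.fr _ (fun s => (I.τ_B s _ _).trans (by simp)) v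
  have B0' : ∀ y, I.B (0 : I.W) y • v = 0 := fun y => I.fr _ (fun s => (I.τ_B s _ _).trans (by simp)) v
  have all : ∀ h ∈ I.H Q, ∃ c, h = ι (I.π h) c := fun h hh =>
    (π_spec (I := I) h).imp fun c e => ext_H hh (ιH _ _) (by rw [hι, e])
  have l1 : l 1 = 1 := by simpa using lm 1 (one_mem _) 1 (one_mem _)
  obtain ⟨e, he⟩ := I.frob (AddMonoidHom.mk' (fun c => lg (l (ι 0 c))) fun c c' => by
    rw [← lg_mul, ← lm _ (ιH _ _) _ (ιH _ _), mul, add_zero,
      cg 0 (c := c + c' + _) (c' := c + c') (by rw [add_smul, B0, add_zero])]) fun a h => by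
    rw [AddMonoidHom.mk'_apply, ext_H (ιH 0 a) (one_mem _) (by simp [hι, h]), l1]; rfl
  simp only [AddMonoidHom.mk'_apply] at he
  have sp : ∀ w c, lg (l (ι w c)) = lg (l (ι w 0)) + I.τ (c * e) := fun w c => by
    rw [← he, ← lg_mul, ← lm _ (ιH _ _) _ (ιH _ _), mul, add_zero,
      cg w (c := 0 + c + _) (c' := c) (by rw [add_smul, B0', add_zero, zero_add])]
  rcases sim e (tr e) with e0 | e0
  · refine descA ih v0 (fun _ => tr) (fun w => ⟨_, ιH w 0, ιπ w 0⟩) l lm fun z hz h0 => lg_inj ?_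
    obtain ⟨c, ec⟩ := all z hz
    rw [ec, h0, he, I.τ_zero fun x => by rw [mul_smul, e0, smul_zero]]; rfl
  obtain ⟨n, hn⟩ := G.exists_inv e0
  let G' : Geo R I.W :=
    { G.res _ I.nd.perp with
      b := (G.res _ I.nd.perp).b.comp (LinearMap.lsmul R I.W e).toAddMonoidHom
      symm x y := (G.adj e x y).trans (by rw [tr]; exact G.symm _ _)
      alt x := by simpa using G.alt' tr e 1 x
      nd x h := Subtype.ext (e0 _ (congrArg Subtype.val ((G.res _ I.nd.perp).nd (e • x) h)))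
      adj a x y := by
        change G.b (e • a • (x : V)) y = G.b (e • (x : V)) (star a • (y : V))
        rw [smul_comm, G.adj] }
  have b' : ∀ x y, G'.b x y = G.b (e • (x : V)) y := fun _ _ => rfl
  have cj : ∀ y ∈ I.L Q, ∀ w c, y * ι w c * y⁻¹ = ι ((I.r Q y).1 w) c := fun y hy w c =>
    ext_H ((I.instNormalH Q).conj_mem _ (ιH _ _) _) (ιH _ _) (by
      change y.1.1 ((ι w c).1.1 (y⁻¹.1.1 _)) = _
      rw [mem_L.1 (inv_mem hy), hι, hι, y.2.add, y.2.add, mem_L.1 hy, L_act hy, map_v y.2, tr.st])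
  refine nq_tr (ih _ (W_ne v0) G' ⟨fun w => lg (l (ι w 0)), 1, fun w w' => ?_, by simp⟩ 0
    fun _ _ => by simp) ((I.r Q).comp (stab _ _ l).subtype) (fun _ => rfl)
    (fun y => ⟨fun w w' => ?_, (I.r_mem Q y).lin, fun w => ?_, (I.r_mem Q y).fix⟩)
    (fun y e => Subtype.ext (disj e y.2.1)) fun g m => ?_
  · have := congrArg (fun x => lg (l x)) (mul w' 0 w 0)
    simp only [lm _ (ιH _ _) _ (ιH _ _), lg_mul, add_zero, zero_add, add_comm w'] at this
    rw [sp (w + w'), mul_comm, τ_B] at this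
    rw [b']; grind
  · have := (I.r_mem Q y).iso (e • w) w'
    rw [(I.r_mem Q y).lin, res_b, Submodule.coe_smul, tr.st] at this
    exact this
  · exact congrArg lg ((congrArg l (cj y y.2.1 w 0).symm).trans (y.2.2 _ (ιH w 0)))
  · obtain ⟨y, hy, ey⟩ := exists_L (Q := Q) g (fun w w' => by
      have := m.iso (e ^ n • w) w'
      rwa [b', b', m.lin1 rfl, Submodule.coe_smul, Submodule.coe_smul, ← mul_smul, ← mul_smul,
        mul_comm, hn, hn] at this) (m.lin1 rfl) fun _ => by rw [Q.h0 k0, Q.h0 k0]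
    refine ⟨⟨y, hy, fun h hh => lg_inj ?_⟩, ey⟩
    obtain ⟨c, ec⟩ := all h hh
    rw [ec, cj y hy, sp, sp _ c, ey]
    exact congrArg (· + _) (m.q _)

end Iso

end Geo

end Cfsg.Agent.FS
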