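import Cfsg.Agent.FS.G4

/-! The stabiliser of an isotropic vector: symplectic, orthogonal and unitary cases. -/

set_option autoImplicit false

namespace Cfsg.Agent.FS

open Equiv

variable {R V : Type*} [CommRing R] [StarRing R] [AddCommGroup V] [Module R V]

namespace Geo

variable {G : Geo R V} {Q : G.Quad} {v : V}

include G in
theorem exists_unit (sim : Sim R V) (h : ¬ Triv R V) : ∃ c a : R, c * star c = 1 ∧
    (∀ x : V, c • x = x → x = 0) ∧ ∀ x : V, (a + star a) • x = x := by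
  by_cases e : ∀ c : R, c * star c = 1 → ∀ x : V, star c • x = c • x
  · refine (h fun a => ?_).elim
    refine Subring.closure_induction (p := fun a _ => ∀ x : V, star a • x = a • x) ?_ (by simp)
      (by simp) (fun a c _ _ h1 h2 x => by rw [star_add, add_smul, h1, h2, add_smul])
      (fun a _ h1 x => by simp [h1])
      (fun a c _ _ h1 h2 x => by rw [star_mul', mul_smul, h1, h2, mul_smul]) (G.gen a)
    rintro a (ha | ha)
    · simp [ha]
    · exact e a ha
  push Not at e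
  obtain ⟨c, hc, x, hx⟩ := e
  have i := (sim (c + star c) (by simp [add_comm])).resolve_left fun k => hx (by
    rw [← zero_add (c • x), ← k x, add_smul, add_right_comm, G.two, zero_add])
  obtain ⟨n, hn⟩ := G.exists_inv i
  refine ⟨c, (c + star c) ^ n * c, hc, fun y hy => i y ?_, fun y => ?_⟩
  · rw [add_smul, hy]
    nth_rw 2 [← hy]
    rw [← mul_smul, mul_comm, hc, one_smul, G.two]
  · simp only [star_mul', star_pow, star_add, star_star, add_comm (star c), ← mul_add, hn]

include G in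
theorem pow_fix {c : R} {w : V} (k : ℕ) (h : c ^ 2 ^ k • w = w) : c • w = w := by
  induction k with
  | zero => simpa using h
  | succ k ih =>
    refine ih (sub_eq_zero.1 ?_)
    rw [← one_smul R w, ← mul_smul, mul_one, ← sub_smul]
    refine G.kill_sq ?_
    rw [show (c ^ 2 ^ k - 1) * (c ^ 2 ^ k - 1) = c ^ 2 ^ (k + 1) - 1 + ((1 - c ^ 2 ^ k) +
      (1 - c ^ 2 ^ k)) by rw [pow_succ 2, pow_mul]; ring, add_smul, add_smul (1 - _), G.two,
      sub_smul, h]
    simp

variable [Finite V]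

namespace Iso

variable {I : G.Iso v}

theorem caseSp (ih : IH1 R V) (v0 : v ≠ 0) (k0 : Q.κ = 0) (tr : Triv R V) (sim : Sim R V)
    (I : G.Iso v) : NQ (G.sgn Q v) := nq_of_bad fun W _ _ _ S hb => by
  obtain ⟨l, lm, -, n⟩ := desc (I.H Q) (I.L Q) (fun _ => sgn_H)
    (HL (fun _ _ _ => by rw [Q.h0 k0, Q.h0 k0]) fun _ => tr) hb
    (fun a ha b hb w => by rw [← S.mul' (sgn_H ha) (sgn_H hb), H_comm tr hb ha,
      S.mul' (sgn_H hb) (sgn_H ha)])
    fun a ha w => by
      rw [← S.mul' (sgn_H ha) (sgn_H ha), H_sq ha fun s => by simpa using G.alt' tr s 1 _, S.one]; rfl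
  exact n (descB ih v0 k0 tr sim l lm)

theorem caseO1 (ih : IH1 R V) (v0 : v ≠ 0) (k : Q.κ = 1) (tr : Triv R V)
    (hq : ∀ s : R, Q.q (s • v) = 0) (I : G.Iso v) : NQ (G.sgn Q v) :=
  nq_of_bad fun W _ _ _ S hb => by
  have h1 : ∀ y, I.P y → ∀ a : R, Q.q (y + a • v) = Q.q y := fun y hy a => by
    rw [Quad.add1 k, hq, hy.b, add_zero, add_zero]
  have τ2 : ∀ s c : R, G.b (s • I.v') (s • c • v) = I.τ (s * s * c) := fun s c => by
    rw [← mul_smul, bv'v, I.τ_congr (c := s * s * c) fun y => by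
      rw [mul_smul, tr, ← mul_smul, mul_assoc]]
  obtain ⟨l, lm, l1, n⟩ := desc (I.H Q) (I.L Q) (fun _ => sgn_H) (HL h1 fun _ => tr) hb
    (fun a ha b hb w => by rw [← S.mul' (sgn_H ha) (sgn_H hb), H_comm tr hb ha,
      S.mul' (sgn_H hb) (sgn_H ha)])
    fun a ha w => by
      rw [← S.mul' (sgn_H ha) (sgn_H ha), H_sq ha fun s => by simpa using G.alt' tr s 1 _, S.one]; rfl
  refine n (descA ih v0 (fun _ => tr) (fun w => ?_) l lm fun z hz h0 => ?_)
  · obtain ⟨c, hc⟩ := I.exists_q k tr w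
    obtain ⟨h, hh, e⟩ := exists_H (Q := Q) w c (fun s => by
      simpa only [one_smul] using (G.alt' tr s 1 _).trans (G.alt' tr s 1 I.v').symm)
      (fun y hy a _ => h1 y hy a) fun s => by
        have a1 := I.bW' (s • w) s
        have a2 := (I.P_W (s • w)).b (s * c)
        rw [Submodule.coe_smul] at a1 a2
        rw [smul_add, smul_add, Quad.add1 k, Quad.add1 k, map_add, AddMonoidHom.add_apply, τ2, hc,
          ← mul_smul, hq, a1, a2]
        grind
    exact ⟨h, hh, by simp [π, e]⟩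
  · obtain ⟨c, e⟩ := π_spec (I := I) z
    rw [h0, ZeroMemClass.coe_zero, add_zero] at e
    have := I.eq_of_τ2 (a := c) (c := 0) (fun s => by
      have := z.2.q (s • I.v')
      rw [z.2.lin1 (sgn_H hz), e, smul_add, Quad.add1 k, τ2, ← mul_smul, hq] at this
      rw [mul_zero, I.τ_zero (a := 0) (by simp)]; simpa using this) v
    rw [ext_H hz (one_mem _) (by simp [e, this])]
    exact l1 1 (one_mem _) S.one

theorem caseO2 (ih : IH1 R V) (v0 : v ≠ 0) (k : Q.κ = 1) (tr : Triv R V) (sim : Sim R V)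
    (hq : ¬ ∀ s : R, Q.q (s • v) = 0) (I : G.Iso v) : NQ (G.sgn Q v) :=
  nq_of_bad fun W _ _ _ S hb => by
  obtain ⟨e, he⟩ := I.exists_q k tr v
  have e0 := (sim e (tr e)).resolve_left fun h => hq fun s => by
    rw [he, I.τ_zero fun x => by rw [mul_smul, h, smul_zero]]
  obtain ⟨n, hn⟩ := G.exists_inv e0
  have s0 : ∀ a : R, (∀ s : R, Q.q (s • a • v) = 0) → ∀ x : V, a • x = 0 := fun a h x =>
    G.kill_sq (e0 _ (by
      rw [← mul_smul, I.eq_of_τ2 (a := e * (a * a)) (c := 0) (fun s => by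
        rw [mul_zero, I.τ_zero (a := 0) (by simp), ← h s, ← mul_smul, he]; congr 1; ring), zero_smul]))
  have τ2 : ∀ s c : R, G.b (s • I.v') (s • c • v) = I.τ (s * s * c) := fun s c => by
    rw [← mul_smul, bv'v, I.τ_congr (c := s * s * c) fun y => by
      rw [mul_smul, tr, ← mul_smul, mul_assoc]]
  have qa : ∀ y, I.P y → ∀ a : R, Q.q (y + a • v) = Q.q y + Q.q (a • v) := fun y hy a => by
    rw [Quad.add1 k, hy.b, add_zero]
  have he' : ∀ s, Q.q ((s * e ^ n) • v) = I.τ (s * s * e ^ n) := fun s => by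
    rw [he]
    exact I.τ_congr fun x => by
      rw [show s * e ^ n * (s * e ^ n) * e = s * s * e ^ n * (e ^ n * e) by ring, mul_smul, hn]
  obtain ⟨t, ht, et⟩ := exists_H (Q := Q) 0 (e ^ n) (fun s => by
    simpa only [one_smul] using (G.alt' tr s 1 _).trans (G.alt' tr s 1 I.v').symm)
    (fun y hy a h => by rw [I.fr a fun s => by simpa [τ] using h s, add_zero]) fun s => by
      rw [ZeroMemClass.coe_zero, add_zero, smul_add, Quad.add1 k, τ2, ← mul_smul, he']; grind
  rw [ZeroMemClass.coe_zero, add_zero] at et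
  have π0 : ∀ h ∈ I.H Q, I.π h = 0 := fun h hh => (G.res _ I.nd.perp).nd _ fun y => by
    have := I.τ_B 1 y (I.π h)
    rw [I.τ_zero fun x => by
      rw [one_mul]
      refine s0 _ (fun s => ?_) x
      have := h.2.q (s • y)
      rw [h.2.lin1 (sgn_H hh), I.H_act' hh (I.P_W y), smul_add, ← mul_smul,
        qa _ (I.P_smul (I.P_W y) s), mul_smul] at this
      simpa using this] at this
    rw [res_b, G.symm]; simpa using this.symm
  have H2 : ∀ h ∈ I.H Q, h = 1 ∨ h = t := fun h hh => by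
    obtain ⟨c, ec⟩ := π_spec (I := I) h
    rw [π0 h hh, ZeroMemClass.coe_zero, add_zero] at ec
    have := I.eq_of_τ2 (a := c * (e * c)) (c := c) fun s => by
      have := h.2.q (s • I.v')
      rw [h.2.lin1 (sgn_H hh), ec, smul_add, Quad.add1 k, τ2, ← mul_smul, he] at this
      rw [show s * s * (c * (e * c)) = s * c * (s * c) * e by ring]; grind
    refine (sim c (tr c)).imp (fun c0 => ext_H hh (one_mem _) (by simp [ec, c0]))
      fun c0 => ext_H hh ht ?_
    have h1 := c0 ((e * c) • v - v) (by rw [smul_sub, ← mul_smul, this, sub_self])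
    rw [ec, et, ← hn (c • v), mul_smul, ← mul_smul e, sub_eq_zero.1 h1]
  obtain ⟨L, tL, hL⟩ := I.exists_compl k tr sim he' (fun h => v0 (by
    rw [← hn v, mul_comm, mul_smul, h, smul_zero])) (t := t) fun y => by
      obtain ⟨u, s, hu, rfl⟩ := I.dec' y
      rw [t.2.add, Z_act ht (π0 t ht) hu, t.2.lin1 (sgn_H ht), et, mul_smul,
        I.eq_of_τ (a := I.B v (u + s • I.v')) (c := s) fun a => by
          rw [τ_B, map_add, hu a, zero_add, bvv', ← τ_star, star_mul', star_star, mul_comm]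
          exact I.τ_congr fun x => by rw [mul_smul, tr, mul_smul], smul_add, smul_comm s, add_assoc]
  obtain ⟨l, -, -, n⟩ := desc (I.H Q) L (fun _ => sgn_H) (fun x => (hL x).elim
    (fun h => ⟨1, one_mem _, x, h, by simp⟩) fun h => ⟨t⁻¹, inv_mem ht, _, h, by simp⟩) hb
    (fun a ha b hb w => by rw [← S.mul' (sgn_H ha) (sgn_H hb), H_comm tr hb ha,
      S.mul' (sgn_H hb) (sgn_H ha)])
    fun a ha w => by
      rw [← S.mul' (sgn_H ha) (sgn_H ha), H_sq ha fun s => by simpa using G.alt' tr s 1 _, S.one]; rfl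
  refine n (nq_tr (ih _ (W_ne v0) _ (G.res _ I.nd.perp).q0 0 fun _ _ => by simp)
    ((I.r Q).comp (stab _ _ l).subtype) (fun _ => rfl) (fun y => I.r_mem Q y)
    (fun y e => Subtype.ext ((H2 y e).resolve_right fun k => tL (k ▸ y.2.1))) fun g m => ?_)
  suffices ∃ x : G.grp Q v, I.r Q x = (g, 1) by
    obtain ⟨x, hx⟩ := this
    have : ∀ y ∈ L, I.r Q y = (g, 1) → ∃ y, ((I.r Q).comp (stab (I.H Q) L l).subtype) y = (g, 1) :=
      fun y hy e => ⟨⟨y, hy, fun a ha => by
        rw [Z_comm ha (π0 a ha) y (congrArg Prod.snd e), mul_inv_cancel_right]⟩, e⟩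
    exact (hL x).elim (fun h => this x h hx) fun h => this _ h (by
      rw [map_mul, show I.r Q t = 1 from ht, one_mul, hx])
  obtain ⟨y, hy, ey⟩ := exists_L (Q := G.q0) g m.iso (m.lin1 rfl) fun _ => rfl
  have sy : ∀ x y u : V, I.B x y • u = I.B y x • u := fun x y u => by rw [I.B_star, tr]
  have nd : ∀ w : I.W, (∀ u : I.W, Q.q (I.B u w • v) = 0) → w = 0 := fun w h =>
    (G.res _ I.nd.perp).nd _ fun u => by
      have := I.τ_B 1 u w
      rw [I.τ_zero fun x => by
        rw [one_mul]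
        exact s0 _ (fun s => by rw [← mul_smul, ← I.B_smul]; exact h (s • u)) x] at this
      rw [res_b, G.symm]; simpa using this.symm
  obtain ⟨w, hw⟩ := rep (A := I.W) (B := I.W) (AddMonoidHom.mk' (fun w => AddMonoidHom.mk'
    (fun u => Q.q (I.B u w • v)) fun u u' => by
      rw [Submodule.coe_add, B_add, qa _ (I.P_v _)]) fun w w' => AddMonoidHom.ext fun u => by
      simp only [AddMonoidHom.mk'_apply, AddMonoidHom.add_apply]
      rw [Submodule.coe_add, sy, B_add, qa _ (I.P_v _), sy, sy w']) nd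
    (fun u h => nd u fun w => by rw [sy]; exact h w)
    (AddMonoidHom.mk' (fun u => Q.q u + Q.q (g⁻¹ u : I.W)) fun u u' => by
      have h1 := ((G.res _ I.nd.perp).grp _ _).inv_mem m
      have h2 := h1.iso u u'
      have h3 : g⁻¹ (u + u') = g⁻¹ u + g⁻¹ u' := h1.add u u'
      simp only [res_b, Prod.fst_inv] at h2
      rw [h3, Submodule.coe_add, Submodule.coe_add, Quad.add1 k, Quad.add1 k, h2]; grind)
  simp only [AddMonoidHom.mk'_apply] at hw
  obtain ⟨h, hh, eh⟩ := exists_H (Q := G.q0) w 0 (fun s => by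
    simpa only [one_smul] using (G.alt' tr s 1 _).trans (G.alt' tr s 1 I.v').symm)
    (fun _ _ _ _ => rfl) fun _ => rfl
  obtain ⟨z, hz, -, ez⟩ := I.fixq k tr sim (h * y).1.1 (h * y).2.iso fun u hu => by
    obtain ⟨a, u, rfl⟩ := hu.dec
    change Q.q (h.1.1 (y.1.1 _)) = _
    rw [y.2.add, h.2.add, map_v y.2, tr.st, h.2.lin1 (sgn_H hh), h.2.fix, L_act hy, ey,
      qa _ (I.map_P h.2 (I.P_W _)), I.H_act' hh (I.P_W _), qa _ (I.P_W _), qa _ (I.P_W _),
      show I.π h = w by simp [π, eh], hw]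
    simp only [Perm.coe_inv, symm_apply_apply]; grind
  refine ⟨⟨(h * y * z⁻¹).1, (h * y * z⁻¹).2.iso, (h * y * z⁻¹).2.lin, fun u => ?_,
    (h * y * z⁻¹).2.fix⟩, (?_ : I.r G.q0 (h * y * z⁻¹) = _)⟩
  · exact (ez _).symm.trans (by simp)
  · rw [map_mul, map_mul, map_inv, show I.r _ z = 1 from hz, show I.r _ h = 1 from hh, ey]; simp

variable (I Q) in
/-- the centre of the unipotent radical -/
noncomputable def Z : Subgroup (G.grp Q v) where
  carrier := {z | z ∈ I.H Q ∧ I.π z = 0}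
  one_mem' := ⟨one_mem _, π_L (one_mem _)⟩
  mul_mem' h h' := ⟨mul_mem h.1 h'.1, by rw [π_mul_H h.1, h.2, h'.2, add_zero]⟩
  inv_mem' h := ⟨inv_mem h.1, by rw [π_inv h.1, h.2]⟩

theorem caseU (ih : IH1 R V) (v0 : v ≠ 0) (k0 : Q.κ = 0) (tr : ¬ Triv R V) (sim : Sim R V)
    (h1 : ∀ d, G.sgn Q v d = 1 → Odd (orderOf d) → (∀ g, G.sgn Q v g = 1 → g * d = d * g) ∨
      NQ ((G.sgn Q v).comp (Ne (G.sgn Q v) d).subtype)) (I : G.Iso v) : NQ (G.sgn Q v) :=
  nq_of_bad fun W _ _ _ S hb => by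
  obtain ⟨c, a, hc, ci, ha⟩ := G.exists_unit sim tr
  have k1 : Q.κ = 1 → Triv R V := fun e => absurd (k0.symm.trans e) zero_ne_one
  have t2 := (G.res _ I.nd.perp).two
  have hl := HL (I := I) (Q := Q) (fun _ _ _ => by rw [Q.h0 k0, Q.h0 k0]) k1
  have sur : ∀ w, ∃ h ∈ I.H Q, I.π h = w := fun w => by
    obtain ⟨h, hh, e⟩ := exists_H (Q := Q) w (a * I.B w w) (fun s => by
      have a1 := I.bW' w s
      have a2 := I.bW (s • w) 1
      have a3 := (I.P_W (s • w)).b (a * I.B w w)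
      have a4 := I.P_W w (s * (a * I.B w w))
      have a5 := I.P_v (a * I.B w w) (s * (a * I.B w w))
      have a6 := I.bv'v (a * I.B w w) s
      have a7 := I.τ_B s w w
      rw [← τ_star, star_mul', star_star] at a6
      rw [← I.τ_congr (a := s * star (a * I.B w w) + s * (a * I.B w w)) fun x => by
        rw [← mul_add, mul_smul, mul_smul s, star_mul', add_smul, mul_smul (star a), ← I.B_star,
          mul_smul, ← add_smul, add_comm, ha], τ_add] at a7
      simp only [smul_add, map_add, AddMonoidHom.add_apply, ← mul_smul, Submodule.coe_smul, one_smul,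
        τ] at *
      grind) (fun _ _ _ _ => by rw [Q.h0 k0, Q.h0 k0]) fun _ => by rw [Q.h0 k0, Q.h0 k0]
    exact ⟨h, hh, by simp [π, e]⟩
  have zc : ∀ z ∈ I.Z Q, G.sgn Q v z = 1 ∧ ∀ g, G.sgn Q v g = 1 → g * z = z * g := fun z hz =>
    ⟨sgn_H hz.1, Z_comm hz.1 hz.2⟩
  have z2 : ∀ z ∈ I.Z Q, z * z = 1 := fun z hz => H_sq hz.1 (by simp [hz.2])
  have mz : ∀ h ∈ I.H Q, ∀ h' ∈ I.H Q, I.π h = I.π h' → h⁻¹ * h' ∈ I.Z Q := fun h hh h' hh' e =>
    ⟨mul_mem (inv_mem hh) hh', by rw [π_mul_H (inv_mem hh), π_inv hh, e, t2]⟩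
  have sq : ∀ h ∈ I.H Q, h * h ∈ I.Z Q := fun h hh => ⟨mul_mem hh hh, by rw [π_mul_H hh, t2]⟩
  by_cases z1 : ∀ z ∈ I.Z Q, S.ρ z = 1
  · obtain ⟨l, lm, l1, n⟩ := desc (I.H Q) (I.L Q) (fun _ => sgn_H) hl hb (fun x hx y hy w => by
      have m := mz _ (mul_mem hy hx) _ (mul_mem hx hy) (by rw [π_mul_H hx, π_mul_H hy, add_comm])
      rw [← S.mul' (sgn_H hx) (sgn_H hy), ← mul_inv_cancel_left (y * x) (x * y),
        S.mul' (sgn_H (mul_mem hy hx)) (sgn_H m.1), z1 _ m, S.mul' (sgn_H hy) (sgn_H hx)]; rfl)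
      fun x hx w => by rw [← S.mul' (sgn_H hx) (sgn_H hx), z1 _ (sq x hx)]; rfl
    exact n (descA ih v0 k1 sur l lm fun z hz h0 => l1 z hz (z1 z ⟨hz, h0⟩))
  push Not at z1
  obtain ⟨z, hz, z1⟩ := z1
  replace z1 := (hb.central (zc z hz).1 (zc z hz).2 (z2 z hz)).resolve_left z1
  obtain ⟨d, ed⟩ := π_spec (I := I) z
  rw [hz.2, ZeroMemClass.coe_zero, add_zero] at ed
  have ds : ∀ x : V, star d • x = d • x := I.eq_of_τ fun s => by
    have a1 := z.2.iso (s • I.v') I.v'
    have a2 := I.bv'v d s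
    have a3 := I.P_v d (s * d)
    rw [← τ_star, star_mul', star_star] at a2
    simp only [z.2.lin1 (zc z hz).1, ed, smul_add, map_add, AddMonoidHom.add_apply, ← mul_smul,
      τ] at *
    grind
  let g : Perm I.W := ⟨(c • ·), (star c • ·), fun w => by simp [smul_smul, mul_comm _ c, hc],
    fun w => by simp [smul_smul, hc]⟩
  obtain ⟨γ, γL, eγ⟩ := exists_L (Q := Q) g (fun y z => by
    change G.b (c • (y : V)) (c • (z : V)) = _
    rw [G.adj, ← mul_smul, mul_comm, hc, one_smul]) (fun a y => smul_comm c a y)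
    fun _ => by rw [Q.h0 k0, Q.h0 k0]
  have sγ : G.sgn Q v γ = 1 := congrArg Prod.snd eγ
  have rγ : ∀ w, (I.r Q γ).1 w = c • w := fun w => by rw [eγ]; rfl
  have rγ' : ∀ w, (I.r Q γ⁻¹).1 w = star c • w := fun w => by rw [map_inv, eγ]; rfl
  refine bw hb h1 (heis hb (I.H Q) (I.L Q) (I.Z Q) (fun _ => sgn_H) (fun h => ⟨2, Subtype.ext ?_⟩) hl
    (fun _ => disj) zc (fun h hh n => ?_) γL sγ (fun y hy => ?_) (fun h hh e => ?_)
    (fun y hy sy ⟨m, hm⟩ h hh => ?_) ?_)
  · rw [SubmonoidClass.coe_pow, show 2 ^ 2 = 2 + 2 from rfl, pow_add, _root_.sq]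
    exact z2 _ (sq _ h.2)
  · obtain ⟨u, hu⟩ := not_forall.1 (mt ((G.res _ I.nd.perp).nd (I.π h)) fun e => n ⟨hh, e⟩)
    obtain ⟨m, hm⟩ := G.exists_inv ((sim (I.B (I.π h) u + I.B u (I.π h)) fun x => by
      rw [star_add, add_smul, ← I.B_star, ← I.B_star, add_smul, add_comm]).resolve_left fun e => hu (by
        have a1 := I.τ_congr (a := a * (I.B (I.π h) u + I.B u (I.π h))) (c := 0) fun x => by
          rw [mul_smul, e, smul_zero, zero_smul]
        rw [I.τ_zero (a := 0) (by simp), mul_add, τ_add, τ_B, τ_B, G.symm (a • (u : V)), G.adj',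
          ← AddMonoidHom.add_apply, ← map_add, ← add_smul, ha] at a1
        exact a1))
    obtain ⟨h', hh', e⟩ := sur ((d * (I.B (I.π h) u + I.B u (I.π h)) ^ m) • u)
    refine ⟨h', hh', ?_⟩
    rw [comm_eq hh hh' hz.1 ?_, mul_assoc, ← (zc z hz).2 _ (sgn_H (inv_mem hh')), ← mul_assoc,
      mul_inv_cancel_right, S.mul (sgn_H hh) (zc z hz).1, z1, mul_neg, mul_one]
    have fs : ∀ (j : ℕ) (x : V), star ((I.B (I.π h) u + I.B u (I.π h)) ^ j) • x =
        (I.B (I.π h) u + I.B u (I.π h)) ^ j • x := fun j x => by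
      induction j with
      | zero => simp
      | succ j ih =>
        rw [pow_succ', star_mul', mul_smul, ih, mul_smul, star_add, add_smul, ← I.B_star, ← I.B_star,
          add_smul, add_comm]
    have := G.kill_star (a := I.B ((d * (I.B (I.π h) u + I.B u (I.π h)) ^ m) • (u : V)) (I.π h) -
      d * (I.B (I.π h) u + I.B u (I.π h)) ^ m * I.B u (I.π h))
      (fun x => by rw [sub_smul, B_smul, sub_self]) v
    rw [star_sub, sub_smul, sub_eq_zero, ← I.B_star] at this
    rw [ed, e, Submodule.coe_smul, add_smul, this, B_smul, star_mul', star_mul', mul_smul, mul_smul,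
      ← I.B_star, fs, ds, mul_smul, mul_smul, ← smul_add, ← smul_add, ← add_smul, ← mul_smul (_ ^ m),
      hm]
  · refine r_inj (mul_mem (mul_mem hy γL) (inv_mem hy)) (zpow_mem γL _)
      (Prod.ext (Perm.ext fun w => ?_) (by simp [eγ]))
    have := (I.r_mem Q y).lin c ((I.r Q y⁻¹).1 w)
    simp only [map_mul, Prod.fst_mul, Perm.mul_apply, rγ, this]
    rcases Int.units_eq_one_or y.1.2 with k | k
    · simp [show G.sgn Q v y = 1 from k, show (I.r Q y).2 = 1 from k, rγ]
    · simp [show G.sgn Q v y = -1 from k, show (I.r Q y).2 = -1 from k, ← rγ']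
  · have := e.2
    rw [mul_assoc, mul_assoc, π_mul_H hh, ← mul_assoc, ← inv_inv γ, inv_inv γ⁻¹,
      π_conj (inv_mem γL) (inv_mem hh), π_inv hh, rγ'] at this
    have h0 : I.π h = 0 := Subtype.ext (ci _ (by
      have := congrArg (fun w : I.W => c • (w : V)) this
      simp only [Submodule.coe_add, Submodule.coe_smul, smul_add, smul_smul, hc, one_smul,
        ZeroMemClass.coe_zero, smul_zero] at this
      rw [← add_zero (c • _), ← G.two (I.π h : V), ← add_assoc, this, zero_add]))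
    rw [← Z_comm hh h0 _ (show G.sgn Q v γ⁻¹ = 1 by rw [map_inv, sγ, inv_one])]; group
  · have m1 := I.r_mem Q y
    obtain ⟨w, hw⟩ := Finite.injective_iff_surjective.1 ((injective_iff_map_eq_zero
      (AddMonoidHom.mk' (fun w => w + c • (I.r Q y).1 w) fun w w' => by
        rw [m1.add, smul_add]; abel)).2 fun w e => by
        have e1 : c • (I.r Q y).1 w = w := by
          rw [← add_zero (c • _), ← t2 w, ← add_assoc, add_comm (c • _) w]
          exact (congrArg (· + w) e).trans (zero_add w)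
        have : ∀ j : ℕ, c ^ j • (I.r Q (y ^ j)).1 w = w := fun j => by
          induction j with
          | zero => simp
          | succ j ih =>
            rw [pow_succ', pow_succ' y, map_mul, Prod.fst_mul, Perm.mul_apply, mul_smul,
              ← m1.lin1 sy, ih, e1]
        have := congrArg Subtype.val (this (2 ^ m))
        rw [← hm, pow_orderOf_eq_one y, hm, map_one] at this
        exact Subtype.ext (ci _ (G.pow_fix m this))) (I.π h)
    obtain ⟨h', hh', e⟩ := sur w
    have yL := mul_mem γL hy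
    have m2 := mz _ (mul_mem hh' ((I.instNormalH Q).conj_mem _ (inv_mem hh') (γ * y))) _ hh (by
      rw [π_mul_H hh', π_conj yL (inv_mem hh'), π_inv hh', e, ← hw, map_mul, Prod.fst_mul,
        Perm.mul_apply, rγ]; rfl)
    refine ⟨h', hh', _, m2, ?_⟩
    have := (zc _ m2).2 (γ * y) (by rw [map_mul, sγ, sy, one_mul])
    rw [show ∀ z, h' * (γ * y) * h'⁻¹ * z = h' * (γ * y * h'⁻¹ * (γ * y)⁻¹) * (γ * y * z) from
      fun z => by group, this]
    group
  · exact nq_tr (ih _ (W_ne v0) _ (G.res _ I.nd.perp).q0 0 fun _ _ => by simp)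
      ((I.r Q).comp (I.L Q).subtype) (fun _ => rfl) (fun y => I.r_mem Q y)
      (fun y e => Subtype.ext (disj e y.2)) fun g m => by
        obtain ⟨y, hy, e⟩ := exists_L (Q := Q) g m.iso (m.lin1 rfl) fun _ => by rw [Q.h0 k0, Q.h0 k0]
        exact ⟨⟨y, hy⟩, e⟩

end Iso

end Geo

end Cfsg.Agent.FS
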