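import Cfsg.Agent.FS.G5

/-! The main induction: no quaternionic representations for the (twisted) classical groups in
characteristic two and their vector stabilisers. -/

set_option autoImplicit false

namespace Cfsg.Agent.FS

open Equiv

universe u

/-- the induction hypothesis for smaller groups on the same space -/
def IH2 (V : Type u) [AddCommGroup V] (N : ℕ) : Prop :=
  ∀ (R : Type u) [CommRing R] [StarRing R] [Module R V] (G : Geo R V) (Q : G.Quad) (z : V),
    Geo.OK Q z → Nat.card (G.grp Q z) < N → NQ (G.sgn Q z)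

namespace Geo

section
variable {R V : Type*} [CommRing R] [StarRing R] [AddCommGroup V] [Module R V] {G : Geo R V}
  {Q : G.Quad} {v : V} [Finite V]

omit [Finite V] in
theorem ideal_dich (sim : Sim R V) (μ : R → ZMod 2) (m0 : ∀ {a c}, (∀ x : V, a • x = c • x) → μ a = μ c)
    (ma : ∀ a c, μ (a + c) = μ a + μ c) (ms : ∀ a, μ (star a) = μ a) (G : Geo R V) {a : R}
    (h : ∀ s, μ (s * a) = 0) : (∀ x : V, a • x = 0) ∨ ∀ s, μ s = 0 := by
  have k : ∀ c, (∀ s, μ (s * c) = 0) → (∀ x : V, c • x = 0 → x = 0) → ∀ s, μ s = 0 := fun c h i s => by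
    obtain ⟨n, hn⟩ := G.exists_inv i
    rw [← h (s * c ^ n)]
    exact m0 fun x => by rw [mul_assoc, mul_smul, hn]
  rcases sim (a * star a) (by simp [mul_comm]) with h1 | h1
  · rcases sim (a + star a) (by simp [add_comm]) with h2 | h2
    · refine Or.inl fun x => G.kill_sq ?_
      have := h2 (a • x)
      rwa [add_smul, ← mul_smul, ← mul_smul, mul_comm (star a), h1, add_zero] at this
    · exact Or.inr (k _ (fun s => by
        rw [mul_add, ma, h, ← ms, star_mul', star_star, h, add_zero]) h2)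
  · exact Or.inr (k _ (fun s => by rw [mul_comm a, ← mul_assoc, h]) h1)

theorem exists_iso (sim : Sim R V) (v0 : v ≠ 0) (iso : ∀ a : R, G.b (a • v) v = 0)
    (hx : Triv R V ∨ ∃ x, G.sgn Q v x = -1) : Nonempty (G.Iso v) := by
  suffices ∃ y, (∀ a : R, G.b (star a • v) y = G.b (a • v) y) ∧ ∃ a : R, G.b (a • v) y ≠ 0 by
    obtain ⟨y, h, s, hs⟩ := this
    exact ⟨⟨y, iso, fun a ha => (ideal_dich sim (fun a => G.b (a • v) y) (fun e => by rw [e])
      (fun _ _ => by simp [add_smul]) h G ha).resolve_right fun e => hs (e s), h⟩⟩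
  obtain ⟨y, hy⟩ := not_forall.1 (mt (G.nd v) v0)
  by_cases tr : Triv R V
  · exact ⟨y, fun a => by rw [tr], 1, by simpa using hy⟩
  obtain ⟨x, hx⟩ := hx.resolve_left tr
  obtain ⟨-, a, -, -, ha⟩ := G.exists_unit sim tr
  have k : ∀ a : R, G.b (a • v) (x.1.1 y) = G.b (star a • v) y := fun a => by
    rw [← x.2.iso (star a • v), x.2.lin, x.2.fix, show x.1.2 = -1 from hx, st_neg, star_star]
  refine ⟨y + x.1.1 y, fun a => by simp [k, add_comm], a, ?_⟩
  rwa [map_add, k, ← AddMonoidHom.add_apply, ← map_add, ← add_smul, ha]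

theorem step1 (ih : IH1 R V) (v0 : v ≠ 0) (h2 : Q.κ = 1 → Triv R V) (sim : Sim R V)
    (h1 : ∀ d, G.sgn Q v d = 1 → Odd (orderOf d) → (∀ g, G.sgn Q v g = 1 → g * d = d * g) ∨
      NQ ((G.sgn Q v).comp (Ne (G.sgn Q v) d).subtype)) : NQ (G.sgn Q v) := by
  by_cases e : ∀ x, G.sgn Q v x = 1
  · exact nq_of_pos e
  obtain ⟨x, hx⟩ := not_forall.1 e
  replace hx := (Int.units_eq_one_or _).resolve_left hx
  by_cases iso : ∀ a : R, G.b (a • v) v = 0
  · obtain ⟨I⟩ := exists_iso sim v0 iso (Or.inr ⟨x, hx⟩)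
    rcases (by decide : ∀ t : ZMod 2, t = 0 ∨ t = 1) Q.κ with k | k
    · by_cases tr : Triv R V
      · exact Iso.caseSp ih v0 k tr sim I
      · exact Iso.caseU ih v0 k tr sim h1 I
    · by_cases hq : ∀ s : R, Q.q (s • v) = 0
      · exact Iso.caseO1 ih v0 k (h2 k) hq I
      · exact Iso.caseO2 ih v0 k (h2 k) sim hq I
  have nd : G.ND (R ∙ v) := fun w hw h => by
    obtain ⟨a, rfl⟩ := Submodule.mem_span_singleton.1 hw
    exact (ideal_dich sim (fun a => G.b (a • v) v) (fun e => by rw [e])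
      (fun _ _ => by simp [add_smul]) (fun a => by rw [← G.adj', G.symm]) G (a := a) fun s => by
        have := h (star s • v) (Submodule.smul_mem _ _ (Submodule.mem_span_singleton_self v))
        rwa [G.symm, G.adj', star_star, ← mul_smul] at this).resolve_right iso v
  refine split nd (fun g w hw => ?_) 0 ⟨v, Submodule.mem_span_singleton_self v⟩ (by simp)
    (ih _ (nd.perp_ne (by simpa using v0)) _ _ _ fun _ _ => by simp) (nq_triv fun g hg =>
      Subtype.ext (Prod.ext (Perm.ext fun w => ?_) hg))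
  · obtain ⟨a, rfl⟩ := Submodule.mem_span_singleton.1 hw
    rw [Iso.map_v g.2]
    exact Submodule.smul_mem _ _ (Submodule.mem_span_singleton_self v)
  · obtain ⟨a, ha⟩ := Submodule.mem_span_singleton.1 w.2
    rw [show w = a • ⟨v, Submodule.mem_span_singleton_self v⟩ from Subtype.ext ha.symm, g.2.lin1 hg,
      g.2.fix]
    rfl

end

variable {R V : Type u} [CommRing R] [StarRing R] [AddCommGroup V] [Module R V] {G : Geo R V}
  {Q : G.Quad} {v : V} [Finite V]

theorem h1_of (ih : IH2 V (Nat.card (G.grp Q v))) (ok : OK Q v) (d : G.grp Q v)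
    (e : G.sgn Q v d = 1) (ho : Odd (orderOf d)) : (∀ g, G.sgn Q v g = 1 → g * d = d * g) ∨
      NQ ((G.sgn Q v).comp (Ne (G.sgn Q v) d).subtype) := by
  refine (em _).imp_right fun n => ?_
  obtain ⟨R', _, _, _, G', Q', h, ok'⟩ := G.extend Q v d e ho
  push Not at n
  obtain ⟨g, hg, n⟩ := n
  have lt : (G'.grp Q' v : Set (Perm V × ℤˣ)).ncard < (G.grp Q v : Set (Perm V × ℤˣ)).ncard := by
    refine Set.ncard_lt_ncard ⟨fun x hx => ((h x).1 hx).1, fun l => n ?_⟩
    have : g * d * g⁻¹ = d ^ ((G.sgn Q v g : ℤˣ) : ℤ) := ((h g).1 (l g.2)).2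
    rw [hg] at this
    simpa [mul_inv_eq_iff_eq_mul] using this
  exact nq_tr (ih R' G' Q' v (ok' ok) lt) ((G.grp Q v).subtype.comp (Subgroup.subtype _))
    (fun _ => rfl) (fun y => (h _).2 ⟨y.1.2, y.2⟩) (fun y e => Subtype.ext (Subtype.ext e))
    fun g m => ⟨⟨⟨_, ((h _).1 m).1⟩, ((h _).1 m).2⟩, rfl⟩

theorem step0 (ih : IH1 R V) (ih2 : IH2 V (Nat.card (G.grp Q v))) (h2 : Q.κ = 1 → Triv R V)
    (sim : Sim R V) : NQ (G.sgn Q v) := by
  by_cases v0 : v = 0
  swap
  · exact step1 ih v0 h2 sim (h1_of ih2 fun k a => h2 k a v)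
  subst v0
  rcases subsingleton_or_nontrivial V with _ | _
  · exact nq_triv fun g hg => Subtype.ext (Prod.ext (Subsingleton.elim _ _) hg)
  refine nq_of_bad fun W _ _ _ S hb => bw hb (h1_of ih2 fun k a => h2 k a 0) ?_
  obtain ⟨P, -, hP, hi⟩ := exists_syl (⊤ : Subgroup (G.grp Q 0)) (by simp)
  let f : G.grp Q 0 →* Perm V := (MonoidHom.fst _ _).comp (G.grp Q 0).subtype
  let _ : MulAction P V := MulAction.compHom V (f.comp P.subtype)
  obtain ⟨w, hw, w0⟩ := hP.exists_fixed_point_of_prime_dvd_card_of_fixed_point V (a := 0) (by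
    obtain ⟨y, hy⟩ := exists_ne (0 : V)
    rw [← addOrderOf_eq_prime (p := 2) ((two_nsmul y).trans (G.two y)) hy]
    exact addOrderOf_dvd_natCard y) fun g => g.1.2.fix
  obtain ⟨x, hx⟩ := hb.ex
  have := sec hb.nd (map_one _) (by simp) ((MulAction.stabilizer (Perm V) w).comap f)
    (hi.of_dvd_nat (Subgroup.index_dvd_of_le fun g hg => hw ⟨g, hg⟩)) (one_mem _) hx
    (nq_tr (step1 (Q := Q) ih w0.symm h2 sim (h1_of (fun R' _ _ _ G' Q' z ok h => ih2 R' G' Q' z ok
      (h.trans_le (Subgroup.card_le_of_le fun x hx => ⟨hx.iso, hx.lin, hx.q, hx.zero⟩)))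
      fun k a => h2 k a w)) ((G.grp Q 0).subtype.comp (Subgroup.subtype _)) (fun _ => rfl)
      (fun y => ⟨y.1.2.iso, y.1.2.lin, y.1.2.q, y.2⟩) (fun y e => Subtype.ext (Subtype.ext e))
      fun g m => ⟨⟨⟨_, m.iso, m.lin, m.q, m.zero⟩, m.fix⟩, rfl⟩)
  simpa using this

theorem step (ih : IH1 R V) (ih2 : IH2 V (Nat.card (G.grp Q v))) (ok : OK Q v) :
    NQ (G.sgn Q v) := by
  by_cases sim : Sim R V
  swap
  · exact nsim ih ok sim
  by_cases h2 : Q.κ = 1 → Triv R V
  · exact step0 ih ih2 h2 sim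
  obtain ⟨k, tr⟩ := Classical.not_imp.1 h2
  obtain ⟨-, a, -, -, ha⟩ := G.exists_unit sim tr
  obtain rfl : v = 0 := by rw [← ha v, add_smul, ok k, G.two]
  obtain ⟨z, hz⟩ := G.exists_rep (AddMonoidHom.mk' (fun y => Q.q y + G.b (a • y) y) fun y y' => by
    have := G.adj' a y y'
    have h2 := congrArg (G.b · y') (ha y)
    simp only [Quad.add1 k, smul_add, map_add, AddMonoidHom.add_apply, add_smul,
      G.symm (a • y') y] at *
    grind)
  simp only [AddMonoidHom.mk'_apply] at hz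
  have i : ∀ {Q' w x}, G.Mem Q' w x → ∀ y, G.b (a • x.1 y) (x.1 y) = G.b (a • y) y :=
    fun {Q' w x} h y => by
      rw [← st_st x.2 a, ← h.lin, h.iso, st_st]
      rcases Int.units_eq_one_or x.2 with e | e <;> simp only [e, st_one, st_neg]
      rw [← G.adj', G.symm]
  have e : G.grp G.q0 z = G.grp Q 0 := Subgroup.ext fun x => ⟨fun h => ⟨h.iso, h.lin, fun y => by
    have := h.iso z y
    rw [h.fix, hz, hz, i h] at this
    simpa using this, h.zero⟩, fun h => ⟨h.iso, h.lin, fun _ => rfl, G.ext' fun y => by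
      obtain ⟨y, rfl⟩ := x.1.surjective y
      rw [h.iso, hz, hz, i h, h.q]⟩⟩
  exact nq_tr (step0 (Q := G.q0) (v := z) ih (e ▸ ih2) (fun h => absurd h zero_ne_one) sim)
    (G.grp Q 0).subtype (fun _ => rfl) (fun y => e.ge y.2) (fun y e => Subtype.ext e)
    fun g m => ⟨⟨_, e.le m⟩, rfl⟩

end Geo

theorem main_aux (n : ℕ) : ∀ (V : Type u) [AddCommGroup V] [Finite V], Nat.card V = n →
    ∀ N, IH2 V N := by
  induction n using Nat.strong_induction_on with
  | _ n ih =>
    intro V _ _ hV N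
    induction N using Nat.strong_induction_on with
    | _ N ih2 =>
      intro R _ _ _ G Q v ok h
      refine Geo.step (fun W hW G' Q' z ok' => ih _ ?_ W rfl _ R G' Q' z ok' (Nat.lt_succ_self _))
        (ih2 _ h) ok
      rw [← hV]
      exact Finite.card_subtype_lt (p := (· ∈ W)) (not_forall.1 (mt Submodule.eq_top_iff'.2 hW)).choose_spec

theorem Geo.nq {R V : Type u} [CommRing R] [StarRing R] [AddCommGroup V] [Module R V] [Finite V]
    (G : Geo R V) (Q : G.Quad) (v : V) (ok : Geo.OK Q v) : NQ (G.sgn Q v) :=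
  main_aux _ V rfl _ R G Q v ok (Nat.lt_succ_self _)

end Cfsg.Agent.FS
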