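import Cfsg.Agent.FS.W
import Cfsg.Prelude.Def_Classical

/-! Reality and Frobenius–Schur indicators for symplectic and orthogonal groups, `q` even. -/

set_option autoImplicit false

namespace Cfsg.Agent.FS

open Equiv Polynomial

namespace Geo

section
variable {F V : Type*} [Field F] [StarRing F] [AddCommGroup V] [Module F V] [Finite V]
  {G : Geo F V}

omit [Finite V] in
theorem sim_field : Sim F V := fun a _ => (em (a = 0)).imp (fun h => by simp [h])
  fun h x hx => (smul_eq_zero.1 hx).resolve_left h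

theorem real0 (tr : Triv F V) {g : Perm V} (m : G.Mem G.q0 0 (g, 1)) :
    ∃ x : Perm V, G.Mem G.q0 0 (x, 1) ∧ ∀ y, g (x (g y)) = x y := by
  let L : Module.End F V := ⟨⟨g, m.add⟩, m.lin1 rfl⟩
  have hL : ∀ (k : ℕ) y, (L ^ k) y = (g ^ k) y := fun k y => by
    rw [Module.End.pow_apply, Perm.coe_pow]; rfl
  have ho : ∀ y, g ((L ^ (orderOf g - 1)) y) = y := fun y => by
    rw [hL, ← Perm.mul_apply, ← pow_succ', Nat.sub_add_cancel (orderOf_pos g), pow_orderOf_eq_one]; rfl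
  let _ : Module F[X] V := Module.compHom V (aeval L).toRingHom
  have sm : ∀ (a : F[X]) (y : V), a • y = aeval L a y := fun _ _ => rfl
  obtain ⟨x, i, l⟩ := Pre.ok_aux (σ := (expand F (orderOf g - 1)).toRingHom) _ V rfl
    ⟨G.b, G.symm, G.nd, fun a => by
      induction a using Polynomial.induction_on with
      | C a => intro x y; simp [sm, G.adj, tr a]
      | add p q h1 h2 => intro x y; simp only [add_smul, map_add, AddMonoidHom.add_apply, h1, h2]
      | monomial n a h =>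
        intro x y
        rw [pow_succ, ← mul_assoc, mul_smul, h, map_mul _ _ X, mul_smul, smul_comm _ _ y,
          ← m.iso x]
        generalize (expand F (orderOf g - 1)).toRingHom (C a * X ^ n) • y = u
        simp [sm, ho]; rfl⟩
  refine ⟨x, ⟨i, fun a y => by simpa [sm] using l (C a) y, fun _ => rfl, by simpa using l 0 0⟩,
    fun y => ?_⟩
  have := l X y
  simp only [sm, aeval_X] at this
  rw [show g y = L y from rfl, this]
  simp [ho]

theorem real (tr : Triv F V) {Q : G.Quad} {g : Perm V} (m : G.Mem Q 0 (g, 1)) :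
    ∃ x : Perm V, G.Mem Q 0 (x, 1) ∧ ∀ y, g (x (g y)) = x y := by
  obtain ⟨x, hx, e⟩ := real0 tr (G := G) (g := g) ⟨m.iso, m.lin, fun _ => rfl, m.fix⟩
  rcases (by decide : ∀ t : ZMod 2, t = 0 ∨ t = 1) Q.κ with k | k
  · exact ⟨x, ⟨hx.iso, hx.lin, fun _ => by rw [Q.h0 k, Q.h0 k], hx.fix⟩, e⟩
  obtain ⟨v, hv⟩ := G.exists_rep (AddMonoidHom.mk' (fun y => Q.q (x y) + Q.q y) fun y y' => by
    rw [hx.add, Quad.add1 k, Quad.add1 k, hx.iso]; grind)
  simp only [AddMonoidHom.mk'_apply] at hv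
  by_cases v0 : v = 0
  · exact ⟨x, ⟨hx.iso, hx.lin, fun y => by
      have := hv y
      simp only [v0, map_zero, AddMonoidHom.zero_apply] at this
      grind, hx.fix⟩, e⟩
  obtain ⟨I⟩ := exists_iso (G := G) (Q := Q) sim_field v0 (fun a => by simpa using G.alt' tr a 1 v)
    (Or.inl tr)
  obtain ⟨z, hz, h0, ez⟩ := I.fixq k tr sim_field x hx.iso fun y hy => by
    have := hy 1; rw [one_smul, hv] at this; grind
  have c := Iso.Z_comm (inv_mem hz) (by rw [Iso.π_inv hz, h0]) ⟨(g, 1), m.iso, m.lin, fun _ => rfl,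
    G.ext' fun y => by
      obtain ⟨y, rfl⟩ := g.surjective y
      rw [m.iso, hv, hv, ← m.q (x (g y)), e, m.q]⟩ rfl
  have i := (z⁻¹).2
  refine ⟨x * z⁻¹.1.1, ⟨fun y u => (hx.iso _ _).trans (i.iso y u), fun a y => ?_, fun y => ?_, ?_⟩,
    fun y => ?_⟩
  · simp only [Perm.mul_apply, i.lin1 (Iso.sgn_H (inv_mem hz)), hx.lin1 rfl, st_one]
  · exact (ez _).symm.trans (by simp)
  · simp only [Perm.mul_apply, i.zero, hx.zero]
  · have : g (z⁻¹.1.1 y) = z⁻¹.1.1 (g y) := congrArg (fun t : G.grp G.q0 v => t.1.1 y) c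
    simp only [Perm.mul_apply, ← this, e]

end

universe u

theorem fs {F V : Type u} [Field F] [StarRing F] [AddCommGroup V] [Module F V] [Finite V]
    (G : Geo F V) (tr : Triv F V) (Q : G.Quad) {Γ : Type*} [Group Γ] [Fintype Γ] (f : Γ →* Perm V)
    (hf : Function.Injective f) (hm : ∀ g, G.Mem Q 0 (g, 1) ↔ ∃ y, f y = g) {χ : Γ → ℂ}
    (hχ : IsIrrCharacter Γ χ) : ∑ g, χ (g * g) = Nat.card Γ := by
  refine fs_eq_one (nq_tr (G.nq Q 0 fun _ _ => by simp) (f.prodMap (MonoidHom.id _)) (fun _ => rfl)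
    (fun y => ?_) (fun y e => Prod.ext (hf ((congrArg Prod.fst e).trans (map_one f).symm))
      (congrArg Prod.snd e :)) fun g m => ?_) (fun y => ?_) hχ
  · have := (hm _).2 ⟨y.1, rfl⟩
    exact ⟨this.iso, fun a u => by rw [tr.st]; exact this.lin1 rfl a u, this.q, this.fix⟩
  · obtain ⟨y, rfl⟩ := (hm g).1 m
    exact ⟨(y, 1), rfl⟩
  · obtain ⟨x, hx, e⟩ := real tr ((hm _).2 ⟨y, rfl⟩)
    obtain ⟨x, rfl⟩ := (hm x).1 hx
    have : y * (x * y) = x := hf (Perm.ext fun u => by simp [e])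
    exact isConj_iff.2 ⟨x, by rw [← inv_mul_cancel_left y (x * y), this]; group⟩

end Geo

open Matrix in
theorem fs_mat {ι : Type} [Fintype ι] [DecidableEq ι] {F : Type*} [Field F] [Finite F] [CharP F 2]
    (B : (ι → F) →ₗ[F] (ι → F) →ₗ[F] F) (sy : ∀ x y, B x y = B y x) (alt : ∀ x, B x x = 0)
    (nd : ∀ x, (∀ y, B x y = 0) → x = 0) (Qf : (ι → F) → F)
    (hQ : (∀ x, Qf x = 0) ∨ ∀ x y, Qf (x + y) = Qf x + Qf y + B x y)
    (hs : ∀ a x, Qf (a • x) = a * a * Qf x) {Γ : Type*} [Group Γ] [Finite Γ] (f : Γ →* Matrix ι ι F)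
    (hf : Function.Injective f) (hm : ∀ A : Matrix ι ι F, IsUnit A → ((∃ y, f y = A) ↔
      (∀ x y, B (A *ᵥ x) (A *ᵥ y) = B x y) ∧ ∀ x, Qf (A *ᵥ x) = Qf x)) {χ : Γ → ℂ}
    (hχ : IsIrrCharacter Γ χ) : ∑ᶠ g, χ (g * g) = Nat.card Γ := by
  have := Fintype.ofFinite Γ
  have := Fintype.ofFinite F
  let _ : StarRing F := starRingOfComm
  obtain ⟨T, T1, -⟩ := sep (B := F) CharTwo.add_self_eq_zero ⊥ (x := 1) (by simp)
  have sq : ∀ a : F, ∃ r, r * r = a := fun a =>
    (FiniteField.isSquare_of_char_two (ringChar.eq F 2) a).imp fun _ h => h.symm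
  have T2 : ∀ a c : F, (∀ s, T (s * s * a) = T (s * s * c)) → a = c := fun a c h => by
    by_contra n
    obtain ⟨r, hr⟩ := sq (a - c)⁻¹
    exact T1 (by rw [← inv_mul_cancel₀ (sub_ne_zero.2 n), ← hr, mul_sub, map_sub, h, sub_self])
  let G : Geo F (ι → F) :=
    { b := AddMonoidHom.mk' (fun x => T.comp (B x).toAddMonoidHom) fun x y => by ext; simp
      symm x y := congrArg T (sy x y)
      alt x := (congrArg T (alt x)).trans (map_zero T)
      nd x h := nd x fun y => T2 _ _ fun s => by simpa using h ((s * s) • y)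
      adj a x y := congrArg T (show B _ _ = B x (a • y) by simp)
      red a := by
        obtain ⟨n, -, hn⟩ := FiniteField.card F 2
        exact ⟨n, n.2, fun x => by rw [← hn, FiniteField.pow_card]⟩
      gen a := Subring.subset_closure (Or.inl rfl) }
  have hb : ∀ x y, G.b x y = T (B x y) := fun _ _ => rfl
  obtain ⟨Q, hq⟩ : ∃ Q : G.Quad, ∀ x, Q.q x = T (Qf x) := by
    rcases hQ with h | h
    · exact ⟨G.q0, fun x => by rw [h, map_zero]; rfl⟩
    · exact ⟨⟨fun x => T (Qf x), 1, fun x y => by simp [h, hb], by simp⟩, fun _ => rfl⟩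
  rw [finsum_eq_sum_of_fintype]
  refine G.fs (fun _ _ => rfl) Q (MonoidHom.toHomPerm ⟨⟨fun y => (f y *ᵥ ·), funext fun x => by
    simp; rfl⟩, fun y z => funext fun x => by simp [← mulVec_mulVec]; rfl⟩)
    (fun y z e => hf (toLin'.injective (LinearMap.ext fun x => congrArg (· x) e)))
    (fun g => ⟨fun m => ?_, ?_⟩) hχ
  · let A := LinearMap.toMatrix' (R := F) ⟨⟨g, m.add⟩, m.lin1 rfl⟩
    have hA : ∀ x, A *ᵥ x = g x := fun x => LinearMap.toMatrix'_mulVec _ x
    obtain ⟨y, hy⟩ := (hm A (mulVec_injective_iff_isUnit.1 fun x y e => g.injective (by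
      rwa [← hA, ← hA]))).2 ⟨fun x y => T2 _ _ fun s => by
        have := m.iso ((s * s) • x) y
        rw [m.lin1 rfl] at this
        simpa [hb, hA] using this, fun x => T2 _ _ fun s => by
        rw [← hs, ← hs, hA, ← hq, ← hq, ← m.q (s • x), m.lin1 rfl]⟩
    exact ⟨y, Perm.ext fun x => (congrArg (· *ᵥ x) hy).trans (hA x)⟩
  · rintro ⟨y, rfl⟩
    obtain ⟨h1, h2⟩ := (hm _ ((Group.isUnit y).map f)).1 ⟨y, rfl⟩
    exact ⟨fun x z => congrArg T (h1 x z), fun a x => mulVec_smul _ a x,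
      fun x => by rw [hq, hq]; exact congrArg T (h2 x), mulVec_zero _⟩

open Matrix in
theorem fs_orth {ι : Type} [Fintype ι] [DecidableEq ι] {F : Type*} [Field F] [Finite F] [CharP F 2]
    (Q : QuadraticForm F (ι → F)) (nd : ∀ x, (∀ y, QuadraticMap.polar Q x y = 0) → x = 0)
    (χ : IrrCharacter (isometryGroup F Q)) : (Nat.card (isometryGroup F Q) : ℂ)⁻¹ *
      ∑ᶠ s, (χ : isometryGroup F Q → ℂ) (s * s) = 1 := by
  rw [fs_mat Q.polarBilin (QuadraticMap.polar_comm Q) (fun x => by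
    simp [CharTwo.two_eq_zero]) nd Q (Or.inr (QuadraticMap.map_add Q)) Q.map_smul
    ((Units.coeHom _).comp (isometryGroup F Q).subtype) (Units.val_injective.comp Subtype.val_injective)
    (fun A hA => ⟨?_, fun h => ⟨⟨hA.unit, fun u _ => h.2 u⟩, rfl⟩⟩) χ.2,
    inv_mul_cancel₀ (by exact_mod_cast Nat.card_pos.ne')]
  rintro ⟨y, rfl⟩
  have : ∀ x, Q (y.1.1 *ᵥ x) = Q x := fun x => y.2 x x
  exact ⟨fun x z => by simp [QuadraticMap.polar, ← mulVec_add, this], this⟩

end Cfsg.Agent.FS
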